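import Cfsg.Agent.Lib.OrthMax.TensorSp.Full
import Cfsg.Agent.Lib.NotMax.TensorOrth
import Cfsg.Agent.Lib.TensorMax.Main
import Cfsg.Agent.Lib.Geometry.AltInvolutions

/-! Tensor product subgroups of orthogonal groups in coordinates. -/

set_option autoImplicit false
set_option linter.unusedSectionVars false
set_option linter.unusedVariables false
set_option linter.unusedSimpArgs false

namespace CfsgLib.TensorSp

open QuadraticMap CfsgLib.Geometry CfsgLib.OrthMax

section siegel

variable {F V U W : Type*} [Field F] [AddCommGroup V] [Module F V] [AddCommGroup U] [Module F U]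
  [AddCommGroup W] [Module F W]
variable [FiniteDimensional F V] [FiniteDimensional F U] [FiniteDimensional F W]
variable {Q : QuadraticForm F V}

/-- The transvections of a factor lie in the Siegel group. -/
theorem TData.tau_siegel (h : TData Q U W) (w : W) (s : F) : In (siegelGroup Q) (s • h.P w w 1) := by
  classical
  obtain ⟨m, b, h1, h2, h3⟩ := exists_sympBasis_of_nondeg h.fAlt (⊤ : Submodule F U)
    (fun x _ hx => h.fnd.1 x fun y => hx y trivial)
  let a : Fin m → U := fun i => b (.inl i)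
  let c : Fin m → U := fun i => b (.inr i)
  let G : Fin m → Module.End F U := fun i => h.rk (c i) (a i) - h.rk (a i) (c i)
  have hsum : ∑ i, G i = 1 := by
    refine (b.map (Submodule.topEquiv : (⊤ : Submodule F U) ≃ₗ[F] U)).ext fun j => ?_
    rw [Module.Basis.map_apply, Submodule.topEquiv_apply, LinearMap.sum_apply, Module.End.one_apply]
    rcases j with j | j
    · rw [Finset.sum_eq_single j]
      · simp [G, a, c, TData.rk_apply, h2, h.f_swap (b (.inr j) : U) (b (.inl j) : U), h1]
      · intro i _ hij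
        simp [G, a, c, TData.rk_apply, h2, h.f_swap (b (.inr i) : U) (b (.inl j) : U), h1, Ne.symm hij]
      · simp
    · rw [Finset.sum_eq_single j]
      · simp [G, a, c, TData.rk_apply, h3, h1]
      · intro i _ hij
        simp [G, a, c, TData.rk_apply, h3, h1, hij]
      · simp
  have key : ∀ S : Finset (Fin m), In (siegelGroup Q) (h.P w w (s • ∑ i ∈ S, G i)) := by
    intro S
    induction S using Finset.induction_on with
    | empty =>
      rw [Finset.sum_empty, smul_zero, show h.P w w 0 = 0 from LinearMap.ext fun T => by simp [TData.P_apply]]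
      exact In.zero _
    | insert i S hi ih =>
      rw [Finset.sum_insert hi, smul_add, TData.P_add]
      refine In.add ?_ ih (h.P_mul_zero (h.g_self w) _ _ _ _)
      have hp : polar Q (h.tp (a i) w) (s • h.tp (c i) w) = 0 := by
        rw [polar_smul_right', h.pol, h.g_self, mul_zero, mul_zero]
      refine ⟨_, siegel_mem _ _ (h.sing (a i) w) hp, fun T => ?_⟩
      rw [siegel_apply, polar_smul_right', h.polar_tp', h.polar_tp', CfsgLib.Geometry.map_smul', h.sing]
      simp [TData.P_apply, G, TData.rk_apply]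
      module
  have := key Finset.univ
  rwa [hsum, TData.P_smul] at this

end siegel

open Cfsg Cfsg.Geo CfsgLib.AschbacherOrth
open scoped Matrix MatrixGroups Kronecker

universe u

variable {F : Type u} [Field F] [Fintype F] {ι : Type} [Fintype ι] [DecidableEq ι] {n₁ n₂ : ℕ}

theorem pureVec_single (e : ι ≃ Fin n₁ × Fin n₂) (P : GL ι F) (k : ι) :
    pureVec e P (Pi.single (e k).1 (1 : F)) (Pi.single (e k).2 1) = (P : Matrix ι ι F) *ᵥ Pi.single k 1 := by
  rw [pureVec]
  congr 1
  funext p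
  rcases eq_or_ne p k with rfl | hp
  · simp
  · have : ¬ ((e p).1 = (e k).1 ∧ (e p).2 = (e k).2) := fun hh => hp (e.injective (Prod.ext hh.1 hh.2))
    rcases not_and_or.1 this with h' | h' <;> simp [h', hp]

/-- The bilinear map to the pure tensors. -/
def pureMap (e : ι ≃ Fin n₁ × Fin n₂) (P : GL ι F) :
    (Fin n₁ → F) →ₗ[F] (Fin n₂ → F) →ₗ[F] (ι → F) :=
  LinearMap.mk₂ F (pureVec e P) (pureVec_add_left e P) (fun c x y => pureVec_smul_left e P c x y)
    (pureVec_add_right e P) (fun c x y => pureVec_smul_right e P c x y)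

/-- A symplectic form as a bilinear map. -/
def bil {k : ℕ} {f : (Fin k → F) → (Fin k → F) → F} (hf : IsBilinearForm f) :
    LinearMap.BilinForm F (Fin k → F) :=
  LinearMap.mk₂ F f hf.add_left (fun c x v => hf.smul_left c x v) hf.add_right (fun c v x => hf.smul_right c v x)

theorem bil_nondeg {k : ℕ} {f : (Fin k → F) → (Fin k → F) → F} (hf : IsSymplecticForm f) :
    (bil hf.bilinear).Nondegenerate := by
  refine ⟨fun x hx => by_contra fun hne => ?_, fun x hx => by_contra fun hne => ?_⟩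
  · obtain ⟨-, ⟨y, hy⟩⟩ := hf.nondegenerate x hne
    exact hy (hx y)
  · obtain ⟨⟨y, hy⟩, -⟩ := hf.nondegenerate x hne
    exact hy (hx y)

/-- An element sending pure tensors to pure tensors through two invertible maps. -/
theorem mem_tensor_of_pure (e : ι ≃ Fin n₁ × Fin n₂) (P : GL ι F) {g : GL ι F} (A : GL (Fin n₁) F)
    (B : GL (Fin n₂) F) (hg : ∀ x y, (g : Matrix ι ι F) *ᵥ pureVec e P x y =
      pureVec e P ((A : Matrix (Fin n₁) (Fin n₁) F) *ᵥ x) ((B : Matrix (Fin n₂) (Fin n₂) F) *ᵥ y)) :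
    g ∈ tensorProductSubgroup n₁ n₂ e P := by
  set g₀ := MulAut.conj P (glReindex e.symm (AschbacherForm.kronGL A B)) with hg₀
  have hmem : g₀ ∈ tensorProductSubgroup n₁ n₂ e P := ⟨_, ⟨_, ⟨A, B, rfl⟩, rfl⟩, rfl⟩
  have hc : AschbacherForm.coordR e P (g₀ : Matrix ι ι F) =
      (AschbacherForm.kronGL A B : Matrix (Fin n₁ × Fin n₂) (Fin n₁ × Fin n₂) F) := by
    rw [AschbacherForm.coordR_gl, hg₀, MulAut.conj_apply]
    congr 1
    refine Units.ext ?_
    ext i j
    simp [glReindex, mul_assoc]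
  have : g * P = g₀ * P := Units.ext (Matrix.ext_of_mulVec_single fun k => by
    rw [Units.val_mul, Units.val_mul, ← Matrix.mulVec_mulVec, ← Matrix.mulVec_mulVec, ← pureVec_single e P k,
      hg, mulVec_pureVec e P g₀ hc])
  rw [mul_right_cancel this]
  exact hmem

/-- An element mapping every line of pure tensors into one is in the tensor product subgroup. -/
theorem mem_tensor_of_lines (h1 : 0 < n₁) (h2 : 0 < n₂) (e : ι ≃ Fin n₁ × Fin n₂) (P : GL ι F) {g : GL ι F}
    (hg : ∀ y : Fin n₂ → F, y ≠ 0 → ∃ y', y' ≠ 0 ∧ ∀ x, ∃ x', pureVec e P x' y' = (g : Matrix ι ι F) *ᵥ pureVec e P x y) :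
    g ∈ tensorProductSubgroup n₁ n₂ e P := by
  have hcp : ∀ x y, TensorMax.coord e P (pureVec e P x y) = Matrix.vecMulVec x y := fun x y => by
    ext i k
    rw [TensorMax.coord_apply, pureVec, Matrix.mulVec_mulVec, Units.inv_mul, Matrix.one_mulVec]
    simp [Matrix.vecMulVec_apply]
  obtain ⟨A, B, hAB⟩ := TensorMax.factor_of_lines (by simpa using h1) (TensorMax.coordHom e P g) fun y hy => by
    obtain ⟨y', hy', hx⟩ := hg y hy
    refine ⟨y', hy', ?_⟩
    rintro _ ⟨_, ⟨x, rfl⟩, rfl⟩
    obtain ⟨x', hx'⟩ := hx x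
    refine ⟨x', ?_⟩
    show Matrix.vecMulVec x' y' = _
    rw [TensorMax.inj_apply, ← hcp x y, TensorMax.coordHom_coord, ← hx', hcp]
  have hpure : ∀ x y, (g : Matrix ι ι F) *ᵥ pureVec e P x y = pureVec e P (A *ᵥ x) (Bᵀ *ᵥ y) := fun x y => by
    refine (TensorMax.coord e P).injective ?_
    rw [← TensorMax.coordHom_coord, hAB, hcp, hcp, Matrix.mul_vecMulVec, Matrix.vecMulVec_mul, Matrix.mulVec_transpose]
  have hne : ∀ {x : Fin n₁ → F} {y : Fin n₂ → F}, x ≠ 0 → y ≠ 0 → pureVec e P x y ≠ 0 := by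
    intro x y hx hy h0
    have := congrArg (TensorMax.coord e P) h0
    rw [hcp, map_zero] at this
    obtain ⟨i, hi⟩ := Function.ne_iff.1 hx
    obtain ⟨k, hk⟩ := Function.ne_iff.1 hy
    exact mul_ne_zero hi hk (congrFun (congrFun this i) k)
  have hinj := Matrix.mulVec_injective_iff_isUnit.2 g.isUnit
  have h0 : ∀ {x : Fin n₁ → F} {y : Fin n₂ → F}, x ≠ 0 → y ≠ 0 → A *ᵥ x ≠ 0 ∧ Bᵀ *ᵥ y ≠ 0 := fun {x y} hx hy =>
    ⟨fun e' => hne hx hy (hinj (by rw [hpure, e', Matrix.mulVec_zero]; simp [pureVec]; exact Matrix.mulVec_zero _)),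
      fun e' => hne hx hy (hinj (by rw [hpure, e', Matrix.mulVec_zero]; simp [pureVec]; exact Matrix.mulVec_zero _))⟩
  have hA : IsUnit A := Matrix.mulVec_injective_iff_isUnit.1 fun x x' e' => sub_eq_zero.1 (by_contra fun hd =>
    (h0 hd (fun c => by simpa using congrFun c ⟨0, h2⟩ : (Pi.single ⟨0, h2⟩ (1 : F) : Fin n₂ → F) ≠ 0)).1
      (by rw [Matrix.mulVec_sub]; exact sub_eq_zero.2 e'))
  have hB : IsUnit Bᵀ := Matrix.mulVec_injective_iff_isUnit.1 fun y y' e' => sub_eq_zero.1 (by_contra fun hd =>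
    (h0 (fun c => by simpa using congrFun c ⟨0, h1⟩ : (Pi.single ⟨0, h1⟩ (1 : F) : Fin n₁ → F) ≠ 0) hd).2
      (by rw [Matrix.mulVec_sub]; exact sub_eq_zero.2 e'))
  exact mem_tensor_of_pure e P hA.unit hB.unit hpure

theorem tv_unit {k : ℕ} (f : LinearMap.BilinForm F (Fin k → F)) (hf : f.IsAlt) (d : Fin k → F) (s : F) :
    IsUnit (LinearMap.toMatrix' (1 + s • (f d).smulRight d)) := by
  refine Matrix.mulVec_injective_iff_isUnit.1 fun x x' e => ?_
  rw [LinearMap.toMatrix'_mulVec, LinearMap.toMatrix'_mulVec] at e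
  have h1 : ∀ y, f d ((1 + s • (f d).smulRight d : Module.End F (Fin k → F)) y) = f d y := fun y => by
    simp [hf d]
  have h2 : f d x = f d x' := by rw [← h1 x, e, h1]
  simpa [h2] using e

end CfsgLib.TensorSp
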