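import Cfsg.Agent.Lib.OrthMax.TensorSp.Alg

/-! Elements of the unipotent radical of the stabiliser of `A w`. -/

set_option autoImplicit false
set_option linter.unusedSectionVars false
set_option linter.unusedVariables false
set_option linter.unusedSimpArgs false

namespace CfsgLib.TensorSp

open QuadraticMap CfsgLib.Geometry CfsgLib.OrthMax

variable {F V U W : Type*} [Field F] [AddCommGroup V] [Module F V] [AddCommGroup U] [Module F U]
  [AddCommGroup W] [Module F W]
variable [FiniteDimensional F V] [FiniteDimensional F U] [FiniteDimensional F W]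
variable {Q : QuadraticForm F V} {M : Subgroup (V ≃ₗ[F] V)}

theorem In.polar_eq (hM : M ≤ orth Q) {X : Module.End F V} (hX : In M X) (S T : V) :
    polar Q (X S) T + polar Q S (X T) + polar Q (X S) (X T) = 0 := by
  obtain ⟨g, hg, eg⟩ := hX
  have e := orth_polar (hM hg) S T
  rw [eg, eg, polar_add_left, polar_add_right, polar_add_right] at e
  linear_combination e

theorem In.div {A X Z : Module.End F V} (hA : In M A) (hX : In M X) (e : Z + X + Z * X = A) : In M Z := by
  obtain ⟨a, ha, ea⟩ := hA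
  obtain ⟨x, hx, ex⟩ := hX
  refine ⟨a * x⁻¹, mul_mem ha (inv_mem hx), fun T => ?_⟩
  obtain ⟨S, rfl⟩ := x.surjective T
  show a (x.symm (x S)) = _
  rw [x.symm_apply_apply, ea, ← e, ex, map_add]
  simp only [LinearMap.add_apply, Module.End.mul_apply]
  abel

namespace TData

variable {h : TData Q U W} [Nontrivial U] [Nontrivial W] (hG : h.Gens M)

include hG

/-- The root elements obtained from one element of the radical. -/
theorem radical_InD (h5 : 5 ≤ Module.finrank F W) {X : Module.End F V} (hX : In M X) {w : W} (hw : w ≠ 0)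
    (hA : ∀ u, X (h.tp u w) = 0) (hV : ∀ T, h.c w (X T) = 0) {v : W} (hvw : h.gW v w = 0)
    (hv : v ∉ Submodule.span F {w}) {D : Module.End F U} (hD : ∀ u, X (h.tp u v) = h.tp (D u) w) :
    h.InD M D := by
  obtain ⟨w₁, hw₁⟩ := h.exists_g_one hw
  have hw2 : h.gW w (-w₁) = 1 := by rw [map_neg, h.g_swap, hw₁, neg_neg]
  let D' : Module.End F U := - (h.c v ∘ₗ X ∘ₗ h.tp.flip (-w₁))
  have key : ∀ u T, h.fU (D u) (h.c w T) + h.fU u (h.c v (X T)) = 0 := fun u T => by
    have := hX.polar_eq hG.le (h.tp u v) T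
    rw [hD, h.polar_tp, h.polar_tp, h.polar_tp, hV, map_zero, add_zero] at this
    exact this
  have hadj : ∀ u x, h.fU (D u) x = h.fU u (D' x) := fun u x => by
    have := key u (h.tp x (-w₁))
    rw [h.c_tp, hw2, one_smul] at this
    rw [eq_neg_of_add_eq_zero_left this, ← map_neg]; rfl
  have hcX : ∀ T, h.c v (X T) = - D' (h.c w T) := fun T => h.ext_f fun u => by
    rw [map_neg, ← hadj]
    linear_combination key u T
  have hwv := h.g_swap_zero hvw
  have hPX : h.P v v 1 * X = - h.P v w D' := LinearMap.ext fun T => by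
    simp [P_apply, hcX]
  have hXP : X * h.P v v 1 = h.P w v D := LinearMap.ext fun T => by
    simp [P_apply, hD]
  set G : Module.End F U := - (D * D') with hGdef
  set N₀ : W → Module.End F V := fun b => h.P w b (-D) + h.P b w (-D') with hN₀
  have hZ : In M (N₀ v + h.P w w G) := by
    have hk := hG.tau v 1
    rw [one_smul] at hk
    obtain ⟨k, hk, ek⟩ := hk
    have hconj : In M (X + h.P v v 1 * X - X * h.P v v 1) := hX.conj hk fun T => by
      rw [ek, ek, hPX, hXP]
      have e1 : h.P v v 1 (X T) = - h.P v w D' T := LinearMap.congr_fun hPX T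
      have e2 : X (h.P v v 1 T) = h.P w v D T := LinearMap.congr_fun hXP T
      simp only [LinearMap.add_apply, LinearMap.sub_apply, LinearMap.neg_apply, map_add, e1, e2]
      simp [P_apply, hvw, hwv, h.g_self]
    refine hconj.div hX ?_
    rw [hPX, hXP, hN₀]
    refine LinearMap.ext fun T => ?_
    simp [P_apply, hGdef, hcX, hV]
    abel
  have hE : ∀ b, h.gW w b = 0 → b ∉ Submodule.span F {w} → In M (N₀ b + h.P w w G) := fun b hwb hb => by
    obtain ⟨ρ, ⟨k, hk, ek⟩, e1, e2⟩ := exists_move_fix hG hvw (h.g_swap_zero hwb) hv hb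
    refine hZ.conj hk fun T => ?_
    have c1 : h.c w (k T) = h.c w T := by
      have := c_act (h := h) hG.le hk ek w T; rwa [e1] at this
    have c2 : h.c b (k T) = h.c v T := by
      have := c_act (h := h) hG.le hk ek v T; rwa [e2] at this
    simp only [hN₀, LinearMap.add_apply, map_add, P_apply, ek, e1, e2, c1, c2]
  obtain ⟨b, hwb, hvb, hb⟩ := exists_perp_two (h := h) h5 w v
  have hbv := h.g_swap_zero hvb
  have hbw := h.g_swap_zero hwb
  have hbn : b ∉ Submodule.span F {w} := fun hm => hb (Submodule.span_mono (by simp) hm)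
  have hsn : v + b ∉ Submodule.span F {w} := fun hm => hb (by
    obtain ⟨s, hs⟩ := Submodule.mem_span_singleton.1 hm
    exact Submodule.mem_span_pair.2 ⟨s, -1, by rw [hs]; module⟩)
  have hsum : N₀ (v + b) = N₀ v + N₀ b := by
    simp only [hN₀]
    refine LinearMap.ext fun T => ?_
    simp [P_apply]
    abel
  have hneg : In M (-(N₀ (v + b) + h.P w w G)) := (hE _ (by rw [map_add, hwv, hwb, add_zero]) hsn).neg
    (by simp [hN₀, add_mul, mul_add, P_mul, h.g_self, hwv, hwb, hvw, hbw, hvb, hbv])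
  have hGG := (hZ.add (hE b hwb hbn) (by
      simp [hN₀, add_mul, mul_add, P_mul, h.g_self, hwv, hwb, hvw, hbw, hvb, hbv])).add hneg (by
      simp [hN₀, add_mul, mul_add, P_mul, h.g_self, hwv, hwb, hvw, hbw, hvb, hbv])
  rw [hsum, show N₀ v + h.P w w G + (N₀ b + h.P w w G) + -(N₀ v + N₀ b + h.P w w G) = h.P w w G by abel] at hGG
  have hadjn : ∀ u x, h.fU ((-D) u) x = h.fU u ((-D') x) := fun u x => by simp [hadj]
  have hnegD : h.InD M (-D) := InD.of_single hG hadjn hw fun b hwb hb => by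
    have hbw := h.g_swap_zero hwb
    have := (hE b hwb hb).add (hGG.neg (h.P_mul_zero (h.g_self w) _ _ _ _))
      (by simp [hN₀, add_mul, P_mul, h.g_self, hwb, hbw])
    rwa [show N₀ b + h.P w w G + -h.P w w G = N₀ b by abel] at this
  have := hnegD.smul hG h5 (-1)
  rwa [neg_one_smul, neg_neg] at this

/-- An element of the radical gives a non-scalar member or acts on the second factor only. -/
theorem radical_dichotomy (hQ : (polarBilin Q).Nondegenerate) (h5 : 5 ≤ Module.finrank F W)
    {X : Module.End F V} (hX : In M X) {w : W} (hw : w ≠ 0) (hA : ∀ u, X (h.tp u w) = 0)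
    (hP : ∀ u v, h.gW v w = 0 → X (h.tp u v) ∈ h.A w) (hV : ∀ T, h.c w (X T) = 0) :
    (∃ D, h.InD M D ∧ ∀ s : F, D ≠ s • 1) ∨
      ∃ κ : Module.End F W, ∀ u y, X (h.tp u y) = h.tp u (κ y) := by
  refine or_iff_not_imp_left.2 fun hno => ?_
  have hsc : ∀ D, h.InD M D → ∃ s : F, D = s • 1 := fun D hD => by
    by_contra e
    push Not at e
    exact hno ⟨D, hD, e⟩
  obtain ⟨w₁, hw₁⟩ := h.exists_g_one hw
  have hw2 : h.gW w (-w₁) = 1 := by rw [map_neg, h.g_swap, hw₁, neg_neg]
  obtain ⟨u₀, hu₀⟩ := exists_ne (0 : U)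
  obtain ⟨a, ha⟩ := h.swap.exists_g_one hu₀
  change h.fU a u₀ = 1 at ha
  let Λ : Module.Dual F W := h.fU a ∘ₗ h.c w₁ ∘ₗ X ∘ₗ h.tp u₀
  have hdiag : ∀ u v, h.gW v w = 0 → X (h.tp u v) = h.tp u (Λ v • w) := by
    intro u v hv
    by_cases hm : v ∈ Submodule.span F {w}
    · obtain ⟨s, rfl⟩ := Submodule.mem_span_singleton.1 hm
      have : Λ (s • w) = 0 := by simp [Λ, hA]
      rw [this, zero_smul, map_zero, map_smul, map_smul, hA, smul_zero]
    let D : Module.End F U := h.c w₁ ∘ₗ X ∘ₗ h.tp.flip v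
    have hD : ∀ u, X (h.tp u v) = h.tp (D u) w := fun u => by
      obtain ⟨y, hy⟩ := hP u v hv
      simp only [D, LinearMap.comp_apply, LinearMap.flip_apply, ← hy]
      rw [h.c_tp, hw₁, one_smul]
    obtain ⟨s, hs⟩ := hsc D (radical_InD hG h5 hX hw hA hV hv hm hD)
    have hΛ : Λ v = s := by
      show h.fU a (D u₀) = s
      rw [hs, LinearMap.smul_apply, Module.End.one_apply, map_smul, ha, smul_eq_mul, mul_one]
    rw [hD, hs, hΛ, LinearMap.smul_apply, Module.End.one_apply, map_smul, LinearMap.smul_apply, map_smul]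
  obtain ⟨b, hb⟩ : ∃ b, ∀ y, h.gW b y = Λ y :=
    ⟨(h.gW.toDual h.gnd).symm Λ, fun y => LinearMap.BilinForm.apply_toDual_symm_apply Λ y⟩
  have hbw : h.gW b w = 0 := by rw [hb]; simp [Λ, hA]
  have hwb := h.g_swap_zero hbw
  set N : Module.End F V := h.P w b 1 + h.P b w 1 with hNdef
  have hN : In M N := by
    by_cases hm : b ∈ Submodule.span F {w}
    · obtain ⟨s, rfl⟩ := Submodule.mem_span_singleton.1 hm
      have := hG.tau w (s + s)
      rwa [show (s + s) • h.P w w 1 = N from LinearMap.ext fun T => by simp [hNdef, P_apply, add_smul]] at this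
    · obtain ⟨E, hE, hIn⟩ := InD.scalar hG (1 : F) (h := h)
      obtain rfl : E = 1 := h.adj_unique hE fun u x => by simp
      have := hIn w b hw hm hwb
      rwa [one_smul] at this
  have hNN : N * N = 0 := by simp [hNdef, add_mul, mul_add, P_mul, h.g_self, hwb, hbw]
  set X₁ : Module.End F V := -N + X + -N * X with hX₁def
  have hX₁ : In M X₁ := (hN.neg hNN).mul hX
  have hzero : ∀ u v, h.gW v w = 0 → X₁ (h.tp u v) = 0 := fun u v hv => by
    simp only [hX₁def, hNdef, LinearMap.add_apply, Module.End.mul_apply, LinearMap.neg_apply, hdiag u v hv]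
    simp [P_apply, h.g_swap_zero hv, hb, h.g_self, hwb]
    simp [← hb, hbw]
  have hcV : ∀ T, h.c w (X₁ T) = 0 := fun T => by
    simp [hX₁def, hNdef, P_apply, hV, h.g_self, hwb]
  have hin : ∀ T, X₁ T ∈ h.A w := fun T => h.mem_A_of_perp hw fun u v hv => by
    have := hX₁.polar_eq hG.le (h.tp u v) T
    rwa [hzero u v hv, polar_zero_left, polar_zero_left, zero_add, add_zero] at this
  let G : Module.End F U := h.c w₁ ∘ₗ X₁ ∘ₗ h.tp.flip (-w₁)
  have hG₁ : ∀ T, X₁ T = h.tp (G (h.c w T)) w := fun T => by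
    have e1 : X₁ (T - h.tp (h.c w T) (-w₁)) = 0 := h.map_eq_zero_of_tp hQ X₁ hw hzero (by
      rw [map_sub, h.c_tp, hw2, one_smul, sub_self])
    rw [map_sub, sub_eq_zero] at e1
    obtain ⟨y, hy⟩ := hin T
    have e2 : G (h.c w T) = h.c w₁ (X₁ T) := by rw [e1]; rfl
    rw [e2, ← hy, LinearMap.flip_apply, h.c_tp, hw₁, one_smul]
  have hadj : ∀ u x, h.fU (G u) x = h.fU u (G x) := fun u x => by
    have := hX₁.polar_eq hG.le (h.tp u (-w₁)) (h.tp x (-w₁))
    rw [hG₁, hG₁, h.polar_tp, h.polar_tp', h.polar_tp, h.c_tp, h.c_tp, hw2, one_smul, one_smul, h.c_tp, h.g_self,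
      zero_smul, map_zero, add_zero] at this
    rw [eq_neg_of_add_eq_zero_left this, ← h.f_swap]
  have hX₁e : X₁ = h.P w w G := LinearMap.ext hG₁
  rw [hX₁e] at hX₁
  obtain ⟨s, hs⟩ := hsc G (InD.of_tau hG hadj hw hX₁)
  refine ⟨(h.gW w).smulRight b + (h.gW b).smulRight w + s • (h.gW w).smulRight w, fun u y => ?_⟩
  have e3 : X = N + X₁ + N * X₁ := by
    have : N * N * X = 0 := by rw [hNN, zero_mul]
    rw [hX₁def]
    simp only [mul_add, mul_neg, neg_mul, hNN, ← mul_assoc, zero_mul, neg_zero, zero_add]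
    abel
  rw [e3, hX₁e, hs, hNdef]
  simp [P_apply, h.g_self, hwb, hbw, smul_smul]
  module

end TData

end CfsgLib.TensorSp
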