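import Cfsg.Agent.Lib.OrthMax.TensorSp.XLemma

/-! A member orthogonal to some `A w`. -/

set_option autoImplicit false
set_option linter.unusedSectionVars false
set_option linter.unusedVariables false
set_option linter.unusedSimpArgs false

namespace CfsgLib.TensorSp

open QuadraticMap CfsgLib.Geometry CfsgLib.OrthMax

variable {F V U W : Type*} [Field F] [AddCommGroup V] [Module F V] [AddCommGroup U] [Module F U]
  [AddCommGroup W] [Module F W]
variable [FiniteDimensional F V] [FiniteDimensional F U] [FiniteDimensional F W]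
variable {Q : QuadraticForm F V} {M : Subgroup (V ≃ₗ[F] V)}

/-- Rank and nullity on a subspace. -/
theorem finrank_map_inf_ker {X Y : Type*} [AddCommGroup X] [Module F X] [AddCommGroup Y] [Module F Y]
    [FiniteDimensional F X] (f : X →ₗ[F] Y) (p : Submodule F X) :
    Module.finrank F (p.map f) + Module.finrank F (p ⊓ LinearMap.ker f : Submodule F X) = Module.finrank F p := by
  have h1 := (f.domRestrict p).finrank_range_add_finrank_ker
  rwa [LinearMap.range_domRestrict, LinearMap.ker_domRestrict,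
    show Module.finrank F ((LinearMap.ker f).comap p.subtype) =
      Module.finrank F (p ⊓ LinearMap.ker f : Submodule F X) by
    rw [← Submodule.finrank_map_subtype_eq p (Submodule.comap p.subtype (LinearMap.ker f)),
      Submodule.map_comap_subtype]] at h1

namespace TData

variable (h : TData Q U W)

/-- An image of some `A w` under the group. -/
def Member (M : Subgroup (V ≃ₗ[F] V)) (L : Submodule F V) : Prop :=
  ∃ g ∈ M, ∃ w, w ≠ 0 ∧ L = (h.A w).map (g : V ≃ₗ[F] V).toLinearMap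

/-- A member that is none of the `A w`. -/
def Stray (M : Subgroup (V ≃ₗ[F] V)) (L : Submodule F V) : Prop :=
  h.Member M L ∧ ∀ w, w ≠ 0 → L ≠ h.A w

variable {h}

theorem Member.finrank {L : Submodule F V} (hL : h.Member M L) : Module.finrank F L = Module.finrank F U := by
  obtain ⟨g, -, w, hw, rfl⟩ := hL
  rw [LinearEquiv.finrank_map_eq, h.finrank_A hw]

theorem Member.singular (hM : M ≤ orth Q) {L : Submodule F V} (hL : h.Member M L) {S : V} (hS : S ∈ L) :
    Q S = 0 := by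
  obtain ⟨g, hg, w, hw, rfl⟩ := hL
  obtain ⟨T, hT, rfl⟩ := hS
  exact (mem_orth.1 (hM hg) T).trans (h.Q_A hT)

theorem Member.polar_eq_zero (hM : M ≤ orth Q) {L : Submodule F V} (hL : h.Member M L) {S T : V} (hS : S ∈ L)
    (hT : T ∈ L) : polar Q S T = 0 := by
  rw [QuadraticMap.polar, hL.singular hM (L.add_mem hS hT), hL.singular hM hS, hL.singular hM hT, sub_zero, sub_zero]

theorem Member.map {L : Submodule F V} (hL : h.Member M L) {k : V ≃ₗ[F] V} (hk : k ∈ M) :
    h.Member M (L.map k.toLinearMap) := by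
  obtain ⟨g, hg, w, hw, rfl⟩ := hL
  exact ⟨k * g, mul_mem hk hg, w, hw, by rw [← Submodule.map_comp]; rfl⟩

theorem A_inf_A {w w' : W} (hw : w ≠ 0) (hw' : w' ≠ 0) (hne : h.A w ≠ h.A w') : h.A w ⊓ h.A w' = ⊥ := by
  refine (Submodule.eq_bot_iff _).2 fun T hT => by_contra fun hT0 => hne ?_
  obtain ⟨u, hu⟩ := hT.2
  have hu0 : u ≠ 0 := fun e => hT0 (by rw [← hu, e, map_zero])
  have hm : h.tp u w' ∈ h.A w := by rw [show h.tp u w' = T from hu]; exact hT.1
  obtain ⟨s, rfl⟩ := Submodule.mem_span_singleton.1 (h.tp_mem_A_iff hu0 hm)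
  refine (Submodule.eq_of_le_of_finrank_le ?_ (by rw [h.finrank_A hw, h.finrank_A hw'])).symm
  rintro _ ⟨x, rfl⟩
  exact ⟨s • x, by simp⟩

variable (hG : h.Gens M)

/-- Distinct members meet in at most `k` dimensions. -/
def MaxMeet (h : TData Q U W) (M : Subgroup (V ≃ₗ[F] V)) (k : ℕ) : Prop :=
  ∀ L L', h.Member M L → h.Member M L' → L ≠ L' → Module.finrank F (L ⊓ L' : Submodule F V) ≤ k

include hG

/-- The element attached to an orthogonal pair of the second factor. -/
theorem in_pair [Nontrivial U] [Nontrivial W] {w a : W} (hwa : h.gW w a = 0) :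
    In M (h.P w a 1 + h.P a w 1) := by
  by_cases hw : w = 0
  · subst hw
    rw [show h.P 0 a 1 + h.P a 0 1 = 0 from LinearMap.ext fun T => by simp [P_apply]]
    exact In.zero M
  by_cases hm : a ∈ Submodule.span F {w}
  · obtain ⟨s, rfl⟩ := Submodule.mem_span_singleton.1 hm
    have := hG.tau w (s + s)
    rwa [show (s + s) • h.P w w 1 = h.P w (s • w) 1 + h.P (s • w) w 1 from
      LinearMap.ext fun T => by simp [P_apply, add_smul]] at this
  obtain ⟨E, hE, hIn⟩ := InD.scalar hG (1 : F) (h := h)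
  obtain rfl : E = 1 := h.adj_unique hE fun u x => by simp
  have := hIn w a hw hm hwa
  rwa [one_smul] at this

/-- A vector of a maximally meeting member orthogonal to `A w` forces orthogonality. -/
theorem perp_of_vector [Nontrivial U] [Nontrivial W] (hm : Module.finrank F U + 2 ≤ Module.finrank F W)
    (h5 : 5 ≤ Module.finrank F W) {k : ℕ} (hk1 : 1 ≤ k) (hmax : h.MaxMeet M k) {L : Submodule F V}
    (hL : h.Member M L) {w : W} (hw : w ≠ 0) (hk : Module.finrank F (L ⊓ h.A w : Submodule F V) = k)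
    {v : V} (hv : v ∈ L) (hcv : h.c w v = 0) (hvA : v ∉ h.A w) : ∀ l ∈ L, h.c w l = 0 := by
  by_contra hno
  push Not at hno
  obtain ⟨l₀, hl₀, hu⟩ := hno
  set Z₀ := L.comap (h.tp.flip w) with hZ₀
  have hZ₀k : Module.finrank F Z₀ = k := by
    rw [← hk, (Submodule.equivMapOfInjective _ (h.tp_injective hw) Z₀).finrank_eq, hZ₀, Submodule.map_comap_eq,
      inf_comm, show LinearMap.range (h.tp.flip w) = h.A w from rfl]
  let N : W → Module.End F V := fun a => h.P w a 1 + h.P a w 1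
  have hNA : ∀ a, h.gW w a = 0 → ∀ T ∈ h.A w, N a T = 0 := fun a ha T hT => by
    obtain ⟨u, rfl⟩ := hT
    simp [N, P_apply, h.g_self, h.g_swap_zero ha]
  have hstab : ∀ v, v ∈ L → h.c w v = 0 → v ∉ h.A w → ∀ a, h.gW w a = 0 →
      (h.c a v ∈ Z₀ ↔ ∀ l ∈ L, N a l ∈ L) := by
    intro v hv hcv hvA a ha
    have hNv : N a v = h.tp (h.c a v) w := by simp [N, P_apply, hcv]
    refine ⟨fun hz => ?_, fun H => by simpa [hZ₀, ← hNv] using H v hv⟩
    obtain ⟨g, hg, eg⟩ := in_pair hG ha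
    have heq : L.map g.toLinearMap = L := by
      by_contra hne
      have hle := hmax _ _ (hL.map hg) hL hne
      have hgv : g v ∈ L := by
        rw [eg, hNv]; exact L.add_mem hv hz
      have hlt : L ⊓ h.A w < L.map g.toLinearMap ⊓ L := by
        refine lt_of_le_of_ne (fun T hT => ⟨⟨T, hT.1, ?_⟩, hT.1⟩) fun e => ?_
        · show g T = T
          rw [eg, show (h.P w a 1 + h.P a w 1) T = N a T from rfl, hNA a ha T hT.2, add_zero]
        · have hm : g v ∈ L ⊓ h.A w := e ▸ (⟨Submodule.mem_map_of_mem hv, hgv⟩ : g v ∈ L.map g.toLinearMap ⊓ L)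
          have h1 : g (g v) = g v := by
            rw [eg (g v), show (h.P w a 1 + h.P a w 1) (g v) = N a (g v) from rfl, hNA a ha _ hm.2, add_zero]
          exact hvA (g.injective h1 ▸ hm.2)
      have := Submodule.finrank_lt_finrank_of_lt hlt
      omega
    intro l hl
    have hm : g l ∈ L := heq ▸ Submodule.mem_map_of_mem hl
    rw [eg] at hm
    exact (Submodule.add_mem_iff_right _ hl).1 hm
  set u := h.c w l₀
  let K : Submodule F W := LinearMap.ker (h.gW w) ⊓ (Z₀.comap (h.c.flip v))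
  have hK : ∀ a, a ∈ K ↔ h.gW w a = 0 ∧ ∀ l ∈ L, N a l ∈ L := fun a =>
    ⟨fun ha => ⟨ha.1, (hstab v hv hcv hvA a ha.1).1 ha.2⟩, fun ha => ⟨ha.1, (hstab v hv hcv hvA a ha.1).2 ha.2⟩⟩
  have hker : Module.finrank F (LinearMap.ker (h.gW w)) + 1 = Module.finrank F W :=
    Module.Dual.finrank_ker_add_one_of_ne_zero fun e => hw (h.gnd.1 w fun x => by rw [e, LinearMap.zero_apply])
  let φ : W →ₗ[F] V := h.tp.flip w ∘ₗ h.c.flip l₀ + h.tp u
  have hφ : ∀ a, φ a = N a l₀ := fun a => by simp [φ, N, P_apply, u]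
  have hφA : ∀ a, φ a ∈ h.A w → a ∈ Submodule.span F {w} := fun a ha => by
    refine h.tp_mem_A_iff hu ?_
    have := (h.A w).sub_mem ha (h.tp_mem_A (h.c a l₀) w)
    rwa [hφ, show N a l₀ - h.tp (h.c a l₀) w = h.tp u a by simp [N, P_apply, u]] at this
  by_cases huZ : u ∈ Z₀
  · -- every orthogonal vector stabilises `L`
    have hle : (LinearMap.ker (h.gW w)).map ((h.A w).mkQ ∘ₗ φ) ≤ L.map (h.A w).mkQ := by
      rintro _ ⟨a, ha, rfl⟩
      refine ⟨N a l₀, ?_, by simp [hφ]⟩
      have hKd : ∃ a₁ ∈ K, a₁ ∉ Submodule.span F {w} := SetLike.not_le_iff_exists.1 fun hle => by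
        have h1 := Submodule.finrank_mono hle
        rw [finrank_span_singleton hw] at h1
        have h2 := Submodule.finrank_sup_add_finrank_inf_eq (LinearMap.ker (h.gW w)) (Z₀.comap (h.c.flip v))
        have h3 := Submodule.finrank_le (LinearMap.ker (h.gW w) ⊔ Z₀.comap (h.c.flip v))
        have h4 : Module.finrank F W ≤ Module.finrank F (Z₀.comap (h.c.flip v)) + (Module.finrank F U - k) := by
          have h5 := (Z₀.mkQ ∘ₗ h.c.flip v).finrank_range_add_finrank_ker
          rw [LinearMap.ker_comp, Submodule.ker_mkQ] at h5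
          have h6 := Submodule.finrank_le (LinearMap.range (Z₀.mkQ ∘ₗ h.c.flip v))
          have h7 := Z₀.finrank_quotient_add_finrank
          omega
        change Module.finrank F (LinearMap.ker (h.gW w) ⊓ Z₀.comap (h.c.flip v) : Submodule F W) ≤ 1 at h1
        omega
      obtain ⟨a₁, ha₁, ha₁w⟩ := hKd
      have hva : φ a₁ ∈ L := hφ a₁ ▸ ((hK a₁).1 ha₁).2 l₀ hl₀
      have hcva : h.c w (φ a₁) = 0 := by
        simp [φ, h.g_self, show h.gW w a₁ = 0 from ha₁.1]
      refine (hstab _ hva hcva (fun e => ha₁w (hφA _ e)) a ha).1 ?_ l₀ hl₀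
      have : h.c a (φ a₁) = h.gW a a₁ • u := by simp [φ, h.g_swap_zero (show h.gW w a = 0 from ha)]
      rw [this]
      exact Z₀.smul_mem _ huZ
    have h1 := finrank_map_inf_ker ((h.A w).mkQ ∘ₗ φ) (LinearMap.ker (h.gW w))
    have h2 := finrank_map_inf_ker (h.A w).mkQ L
    rw [Submodule.ker_mkQ, hk, hL.finrank] at h2
    have h3 := Submodule.finrank_mono hle
    have h4 : Module.finrank F (LinearMap.ker (h.gW w) ⊓ LinearMap.ker ((h.A w).mkQ ∘ₗ φ) : Submodule F W) ≤ 1 := by
      rw [← finrank_span_singleton hw (K := F)]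
      refine Submodule.finrank_mono fun a ha => hφA a ?_
      simpa [Submodule.Quotient.mk_eq_zero] using LinearMap.mem_ker.1 ha.2
    omega
  · have hTI : K ≤ LinearMap.BilinForm.orthogonal h.gW K := fun a ha b hb => by
      show h.gW b a = 0
      by_cases hm : a ∈ Submodule.span F {w}
      · obtain ⟨s, rfl⟩ := Submodule.mem_span_singleton.1 hm
        rw [map_smul, h.g_swap_zero hb.1, smul_zero]
      have hva : φ a ∈ L := hφ a ▸ ((hK a).1 ha).2 l₀ hl₀
      have hcva : h.c w (φ a) = 0 := by simp [φ, h.g_self, show h.gW w a = 0 from ha.1]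
      have := (hstab _ hva hcva (fun e => hm (hφA _ e)) b hb.1).2 ((hK b).1 hb).2
      rw [show h.c b (φ a) = h.gW b a • u by simp [φ, h.g_swap_zero (show h.gW w b = 0 from hb.1)]] at this
      by_contra hne
      exact huZ ((Submodule.smul_mem_iff _ hne).1 this)
    have hKd : ∃ a₁ ∈ K, a₁ ∉ Submodule.span F {w} := SetLike.not_le_iff_exists.1 fun hle => by
        have h1 := Submodule.finrank_mono hle
        rw [finrank_span_singleton hw] at h1
        have h2 := Submodule.finrank_sup_add_finrank_inf_eq (LinearMap.ker (h.gW w)) (Z₀.comap (h.c.flip v))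
        have h3 := Submodule.finrank_le (LinearMap.ker (h.gW w) ⊔ Z₀.comap (h.c.flip v))
        have h4 : Module.finrank F W ≤ Module.finrank F (Z₀.comap (h.c.flip v)) + (Module.finrank F U - k) := by
          have h5 := (Z₀.mkQ ∘ₗ h.c.flip v).finrank_range_add_finrank_ker
          rw [LinearMap.ker_comp, Submodule.ker_mkQ] at h5
          have h6 := Submodule.finrank_le (LinearMap.range (Z₀.mkQ ∘ₗ h.c.flip v))
          have h7 := Z₀.finrank_quotient_add_finrank
          omega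
        change Module.finrank F (LinearMap.ker (h.gW w) ⊓ Z₀.comap (h.c.flip v) : Submodule F W) ≤ 1 at h1
        omega
    obtain ⟨a₁, ha₁, ha₁w⟩ := hKd
    have hsub : LinearMap.ker (h.gW w) ⊓ LinearMap.ker (h.gW a₁) ≤ K := fun b hb => by
      have hva : φ a₁ ∈ L := hφ a₁ ▸ ((hK a₁).1 ha₁).2 l₀ hl₀
      have hcva : h.c w (φ a₁) = 0 := by simp [φ, h.g_self, show h.gW w a₁ = 0 from ha₁.1]
      refine (hK b).2 ⟨hb.1, (hstab _ hva hcva (fun e => ha₁w (hφA _ e)) b hb.1).1 ?_⟩
      rw [show h.c b (φ a₁) = h.gW b a₁ • u by simp [φ, h.g_swap_zero (show h.gW w b = 0 from hb.1)],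
        h.g_swap_zero (show h.gW a₁ b = 0 from hb.2), zero_smul]
      exact zero_mem _
    have h1 := Submodule.finrank_mono hTI
    rw [LinearMap.BilinForm.finrank_orthogonal h.gnd] at h1
    have h2 := Submodule.finrank_mono hsub
    have h3 := Submodule.finrank_sup_add_finrank_inf_eq (LinearMap.ker (h.gW w)) (LinearMap.ker (h.gW a₁))
    have h4 := Submodule.finrank_le (LinearMap.ker (h.gW w) ⊔ LinearMap.ker (h.gW a₁))
    have h5' : Module.finrank F (LinearMap.ker (h.gW a₁)) + 1 = Module.finrank F W :=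
      Module.Dual.finrank_ker_add_one_of_ne_zero fun e => ha₁w (by
        rw [h.gnd.1 a₁ fun x => by rw [e, LinearMap.zero_apply]]; exact zero_mem _)
    omega

/-- Some member that is no `A w` is orthogonal to some `A w`. -/
theorem exists_stray_perp [Nontrivial U] [Nontrivial W] (hQ : (polarBilin Q).Nondegenerate)
    (hm : Module.finrank F U + 2 ≤ Module.finrank F W) (h5 : 5 ≤ Module.finrank F W)
    (hex : ∃ L, h.Stray M L) : ∃ L, h.Stray M L ∧ ∃ w, w ≠ 0 ∧ ∀ l ∈ L, h.c w l = 0 := by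
  classical
  by_contra hno
  push Not at hno
  -- moving a pair of members to a standard one
  have hstd : ∀ L L', h.Member M L → h.Member M L' → L ≠ L' → L ⊓ L' ≠ ⊥ → ∃ L₁ w, h.Stray M L₁ ∧ w ≠ 0 ∧
      Module.finrank F (L₁ ⊓ h.A w : Submodule F V) = Module.finrank F (L ⊓ L' : Submodule F V) ∧
      ((∃ v ∈ L', v ∉ L ∧ ∀ l ∈ L, polar Q l v = 0) → ∃ v ∈ L₁, h.c w v = 0 ∧ v ∉ h.A w) := by
    intro L L' hL hL' hne hinf
    obtain ⟨g, hg, w, hw, rfl⟩ := hL
    set L₁ := L'.map (g⁻¹ : V ≃ₗ[F] V).toLinearMap with hL₁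
    have hback : L₁.map g.toLinearMap = L' := by
      rw [hL₁, ← Submodule.map_comp]
      exact (congrArg (fun f => L'.map f) (LinearMap.ext fun T => g.apply_symm_apply T)).trans (Submodule.map_id _)
    have hd : Module.finrank F (L₁ ⊓ h.A w : Submodule F V) =
        Module.finrank F ((h.A w).map g.toLinearMap ⊓ L' : Submodule F V) := by
      rw [← LinearEquiv.finrank_map_eq g (L₁ ⊓ h.A w)]
      rw [Submodule.map_inf _ g.injective, hback, inf_comm]
    have hne₁ : L₁ ≠ h.A w := fun e => hne (by rw [← e, hback])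
    refine ⟨L₁, w, ⟨hL'.map (inv_mem hg), fun w' hw' e => hinf ?_⟩, hw, hd, ?_⟩
    · rw [e, A_inf_A hw' hw (e ▸ hne₁), finrank_bot] at hd
      exact Submodule.finrank_eq_zero.1 hd.symm
    · rintro ⟨v, hv, hvL, hperp⟩
      refine ⟨g.symm v, ⟨v, hv, rfl⟩, ?_, fun hA => hvL ⟨_, hA, g.apply_symm_apply v⟩⟩
      refine h.ext_f fun x => ?_
      rw [h.pol_c, map_zero, ← orth_polar (hG.le hg), g.apply_symm_apply]
      exact hperp _ ⟨_, h.tp_mem_A x w, rfl⟩
  obtain ⟨L₀, hL₀⟩ := hex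
  -- a meeting pair exists
  have hmeet : ∃ L w, h.Stray M L ∧ w ≠ 0 ∧ L ⊓ h.A w ≠ ⊥ := by
    obtain ⟨v, hv, hv0⟩ := Submodule.exists_mem_ne_zero_of_ne_bot (p := L₀) fun e => by
      have := hL₀.1.finrank
      rw [e, finrank_bot] at this
      exact absurd this.symm (Module.finrank_pos (R := F) (M := U)).ne'
    obtain ⟨q, hq, hq0⟩ := Submodule.exists_mem_ne_zero_of_ne_bot (p := LinearMap.ker (h.c.flip v)) fun e => by
      have h1 := LinearMap.finrank_range_add_finrank_ker (h.c.flip v)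
      have h2 := Submodule.finrank_le (LinearMap.range (h.c.flip v))
      rw [e, finrank_bot] at h1
      omega
    have hqv : h.c q v = 0 := hq
    obtain ⟨g, hg, eg⟩ := hG.tau q 1
    by_cases heq : L₀ = L₀.map g.toLinearMap
    · obtain ⟨l, hl, hcl⟩ := hno L₀ hL₀ q hq0
      refine ⟨L₀, q, hL₀, hq0, fun e => ?_⟩
      have hgl : g l ∈ L₀ := heq ▸ Submodule.mem_map_of_mem hl
      rw [eg] at hgl
      have hm := (Submodule.add_mem_iff_right _ hl).1 hgl
      rw [one_smul, P_apply, Module.End.one_apply] at hm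
      exact h.tp_ne_zero hcl hq0 ((Submodule.mem_bot F).1 (e ▸ ⟨hm, h.tp_mem_A _ q⟩))
    · have hgv : g v = v := by simp [eg, P_apply, hqv]
      obtain ⟨L₁, w, hL₁, hw, hd, -⟩ := hstd L₀ _ hL₀.1 (hL₀.1.map hg) heq fun e =>
        hv0 ((Submodule.mem_bot F).1 (e ▸ ⟨hv, ⟨v, hv, hgv⟩⟩))
      refine ⟨L₁, w, hL₁, hw, fun e => ?_⟩
      rw [e, finrank_bot] at hd
      exact hv0 ((Submodule.mem_bot F).1 ((Submodule.finrank_eq_zero.1 hd.symm) ▸ ⟨hv, ⟨v, hv, hgv⟩⟩))
  set p : ℕ → Prop := fun k => ∃ L w, h.Stray M L ∧ w ≠ 0 ∧ Module.finrank F (L ⊓ h.A w : Submodule F V) = k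
  set k := Nat.findGreatest p (Module.finrank F U)
  have hbd : ∀ L w, h.Stray M L → w ≠ 0 → Module.finrank F (L ⊓ h.A w : Submodule F V) ≤ Module.finrank F U :=
    fun L w hL hw => (Submodule.finrank_mono inf_le_left).trans hL.1.finrank.le
  have hkmax : ∀ L w, h.Stray M L → w ≠ 0 → Module.finrank F (L ⊓ h.A w : Submodule F V) ≤ k :=
    fun L w hL hw => Nat.le_findGreatest (hbd L w hL hw) ⟨L, w, hL, hw, rfl⟩
  obtain ⟨Lt, wt, hLt, hwt, hne⟩ := hmeet
  have hk1 : 1 ≤ k := le_trans (Submodule.one_le_finrank_iff.2 hne) (hkmax Lt wt hLt hwt)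
  obtain ⟨L, w, hL, hw, hk⟩ : p k :=
    Nat.findGreatest_spec (hbd Lt wt hLt hwt) (show p _ from ⟨Lt, wt, hLt, hwt, rfl⟩)
  have hmax : h.MaxMeet M k := fun L L' hL hL' hne => by
    by_cases hb : L ⊓ L' = ⊥
    · rw [hb, finrank_bot]; exact Nat.zero_le _
    obtain ⟨L₁, w, hL₁, hw, hd, -⟩ := hstd L L' hL hL' hne hb
    rw [← hd]; exact hkmax L₁ w hL₁ hw
  by_cases hcase : ∃ v ∈ L, h.c w v = 0 ∧ v ∉ h.A w
  · obtain ⟨v, hv, hcv, hvA⟩ := hcase
    obtain ⟨l, hl, hcl⟩ := hno L hL w hw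
    exact hcl (perp_of_vector hG hm h5 hk1 hmax hL.1 hw hk hv hcv hvA l hl)
  push Not at hcase
  obtain ⟨l₁, hl₁, hu⟩ := hno L hL w hw
  set u := h.c w l₁
  let φ : W →ₗ[F] V := h.tp.flip w ∘ₗ h.c.flip l₁ + h.tp u
  have hφ : ∀ a, φ a = (h.P w a 1 + h.P a w 1) l₁ := fun a => by simp [φ, P_apply, u]
  set S : Submodule F V := (L ⊓ h.A w) ⊔ Submodule.span F {l₁}
  have hSR : polarPerp Q L ≤ polarPerp Q S := fun T hT =>
    mem_polarPerp.2 fun s hs => mem_polarPerp.1 hT s
      ((sup_le inf_le_left ((Submodule.span_singleton_le_iff_mem _ _).2 hl₁) : S ≤ L) hs)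
  have hφS : ∀ a, h.gW w a = 0 → φ a ∈ polarPerp Q S := fun a ha => mem_polarPerp.2 fun s hs => by
    obtain ⟨z, hz, y, hy, rfl⟩ := Submodule.mem_sup.1 hs
    obtain ⟨x, rfl⟩ := hz.2
    obtain ⟨r, rfl⟩ := Submodule.mem_span_singleton.1 hy
    rw [polar_add_left, polar_smul_left', LinearMap.flip_apply, h.polar_tp,
      show h.c w (φ a) = 0 by simp [φ, h.g_self, ha], map_zero, zero_add, hφ, LinearMap.add_apply, P_apply, P_apply,
      polar_add_right, h.polar_tp', h.polar_tp', Module.End.one_apply, Module.End.one_apply,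
      h.f_swap (h.c a l₁), neg_add_cancel, mul_zero]
  have hSd : Module.finrank F S = k + 1 := by
    have hl₁n : l₁ ∉ L ⊓ h.A w := fun e => hu (h.c_A (h.g_self w) e.2)
    have h1 := Submodule.finrank_sup_add_finrank_inf_eq (L ⊓ h.A w) (Submodule.span F {l₁})
    rw [hk, finrank_span_singleton (fun e => hl₁n (by rw [e]; exact zero_mem _) : l₁ ≠ 0)] at h1
    have h2 : (L ⊓ h.A w) ⊓ Submodule.span F {l₁} = ⊥ := by
      refine (Submodule.eq_bot_iff _).2 fun T hT => ?_
      obtain ⟨r, rfl⟩ := Submodule.mem_span_singleton.1 hT.2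
      by_contra hr
      exact hl₁n ((Submodule.smul_mem_iff _ (fun e => hr (by rw [e, zero_smul]))).1 hT.1)
    rw [h2, finrank_bot] at h1
    exact h1
  obtain ⟨a, ha, hnw⟩ : ∃ a ∈ LinearMap.ker (h.gW w) ⊓ (polarPerp Q L).comap φ, a ∉ Submodule.span F {w} :=
    SetLike.not_le_iff_exists.1 fun hle => by
      have h1 := Submodule.finrank_mono hle
      rw [finrank_span_singleton hw] at h1
      have h2 := finrank_map_inf_ker ((polarPerp Q L).mkQ ∘ₗ φ) (LinearMap.ker (h.gW w))
      rw [LinearMap.ker_comp, Submodule.ker_mkQ] at h2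
      have h3 : Module.finrank F ((LinearMap.ker (h.gW w)).map ((polarPerp Q L).mkQ ∘ₗ φ)) ≤
          Module.finrank F ((polarPerp Q S).map (polarPerp Q L).mkQ) := Submodule.finrank_mono (by
        rintro _ ⟨a, ha, rfl⟩
        exact ⟨φ a, hφS a ha, rfl⟩)
      have h4 := finrank_map_inf_ker (polarPerp Q L).mkQ (polarPerp Q S)
      rw [Submodule.ker_mkQ, inf_eq_right.2 hSR] at h4
      have h6 := finrank_polarPerp hQ L
      have h7 := finrank_polarPerp hQ S
      have h8 : Module.finrank F (LinearMap.ker (h.gW w)) + 1 = Module.finrank F W :=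
        Module.Dual.finrank_ker_add_one_of_ne_zero fun e => hw (h.gnd.1 w fun x => by rw [e, LinearMap.zero_apply])
      rw [hL.1.finrank] at h6
      omega
  have hwa : h.gW w a = 0 := ha.1
  obtain ⟨g, hg, eg⟩ := in_pair hG hwa
  have hNnot : φ a ∉ L := fun hm => hnw (h.tp_mem_A_iff hu (by
    have h1 := hcase _ hm (by simp [φ, h.g_self, hwa])
    have := (h.A w).sub_mem h1 (h.tp_mem_A (h.c a l₁) w)
    rwa [show φ a - h.tp (h.c a l₁) w = h.tp u a by simp [φ]] at this))
  have hgl : g l₁ = l₁ + φ a := by rw [eg, hφ]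
  have hglL : g l₁ ∉ L := fun hm => hNnot ((Submodule.add_mem_iff_right _ hl₁).1 (hgl ▸ hm))
  have hne : L ≠ L.map g.toLinearMap := fun e =>
    hglL (by rw [e]; exact Submodule.mem_map_of_mem hl₁)
  have hZle : L ⊓ h.A w ≤ L ⊓ L.map g.toLinearMap := fun T hT => ⟨hT.1, T, hT.1, by
    obtain ⟨x, rfl⟩ := hT.2
    show g _ = _
    rw [eg]; simp [P_apply, h.g_self, h.g_swap_zero hwa]⟩
  have hge := Submodule.finrank_mono hZle
  have hd : Module.finrank F (L ⊓ L.map g.toLinearMap : Submodule F V) = k :=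
    le_antisymm (hmax _ _ hL.1 (hL.1.map hg) hne) (hk ▸ hge)
  obtain ⟨L₁, w₁, hL₁, hw₁, hd₁, hvec⟩ := hstd L _ hL.1 (hL.1.map hg) hne fun e => by
    rw [e, finrank_bot] at hd; omega
  obtain ⟨v, hv, hcv, hvA⟩ := hvec ⟨g l₁, Submodule.mem_map_of_mem hl₁, hglL, fun l hl => by
    rw [hgl, polar_add_right, hL.1.polar_eq_zero hG.le hl hl₁, mem_polarPerp.1 ha.2 l hl, add_zero]⟩
  obtain ⟨l, hl, hcl⟩ := hno L₁ hL₁ w₁ hw₁
  exact hcl (perp_of_vector hG hm h5 hk1 hmax hL₁.1 hw₁ (hd₁.trans hd) hv hcv hvA l hl)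

end TData

end CfsgLib.TensorSp
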