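import Cfsg.Agent.Lib.OrthMax.TensorSp.Ops

/-! The algebra of endomorphisms of the first factor giving root elements in the group. -/

set_option autoImplicit false
set_option linter.unusedSectionVars false
set_option linter.unusedVariables false
set_option linter.unusedSimpArgs false

namespace CfsgLib.TensorSp

open QuadraticMap CfsgLib.Geometry CfsgLib.OrthMax

variable {F V U W : Type*} [Field F] [AddCommGroup V] [Module F V] [AddCommGroup U] [Module F U]
  [AddCommGroup W] [Module F W]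
variable [FiniteDimensional F V] [FiniteDimensional F U] [FiniteDimensional F W]
variable {Q : QuadraticForm F V} {M : Subgroup (V ≃ₗ[F] V)}

namespace TData

variable (h : TData Q U W)

/-- The endomorphisms `D` whose root elements at isotropic pairs lie in `M`. -/
def InD (M : Subgroup (V ≃ₗ[F] V)) (D : Module.End F U) : Prop :=
  ∃ D' : Module.End F U, (∀ u x, h.fU (D u) x = h.fU u (D' x)) ∧
    ∀ w v : W, w ≠ 0 → v ∉ Submodule.span F {w} → h.gW w v = 0 → In M (h.P w v D + h.P v w D')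

/-- A rank one endomorphism. -/
def rk (x r : U) : Module.End F U := (h.fU r).smulRight x

theorem rk_apply (x r u : U) : h.rk x r u = h.fU r u • x := rfl

theorem rk_mul (x r y s : U) : h.rk x r * h.rk y s = h.fU r y • h.rk x s := LinearMap.ext fun u => by
  simp [rk_apply, smul_smul, mul_comm]

theorem adj_symm {D D' : Module.End F U} (e : ∀ u x, h.fU (D u) x = h.fU u (D' x)) (u x : U) :
    h.fU (D' u) x = h.fU u (D x) := by
  rw [h.f_swap, ← e, ← h.f_swap]

theorem adj_unique {D D₁ D₂ : Module.End F U} (e₁ : ∀ u x, h.fU (D u) x = h.fU u (D₁ x))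
    (e₂ : ∀ u x, h.fU (D u) x = h.fU u (D₂ x)) : D₁ = D₂ :=
  LinearMap.ext fun x => h.ext_f fun u => by rw [← e₁, e₂]

variable {h}
variable [Nontrivial U] [Nontrivial W] (hG : h.Gens M)

/-- It suffices to have the root elements at the pairs with a given first vector. -/
theorem InD.of_single (hG : h.Gens M) {D D' : Module.End F U} (hadj : ∀ u x, h.fU (D u) x = h.fU u (D' x))
    {w : W} (hw : w ≠ 0)
    (H : ∀ v, h.gW w v = 0 → v ∉ Submodule.span F {w} → In M (h.P w v D + h.P v w D')) : h.InD M D := by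
  refine ⟨D', hadj, fun w₁ v₁ hw₁ hv₁ hg₁ => ?_⟩
  obtain ⟨ρ, hρ, e⟩ := exists_move_zero hG hw hw₁
  obtain ⟨v, rfl⟩ := hρ.surjective hG.le v₁
  have := (H v (by rw [← hρ.preserves hG.le, e]; exact hg₁) fun hm => hv₁ (by
    obtain ⟨s, rfl⟩ := Submodule.mem_span_singleton.1 hm
    exact Submodule.mem_span_singleton.2 ⟨s, by rw [map_smul, e]⟩)).act hG.le hρ
  rwa [e] at this

include hG

/-- A self-adjoint endomorphism giving an element of the root group of `A w`. -/
theorem InD.of_tau {G : Module.End F U} (hadj : ∀ u x, h.fU (G u) x = h.fU u (G x)) {w : W} (hw : w ≠ 0)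
    (hX : In M (h.P w w G)) : h.InD M G := by
  have hall : ∀ a, a ≠ 0 → In M (h.P a a G) := fun a ha => by
    obtain ⟨ρ, hρ, e⟩ := exists_move_zero hG hw ha
    have := hX.act₁ hG.le hρ
    rwa [e] at this
  refine ⟨G, hadj, fun a b ha hb hab => ?_⟩
  have hb0 : b ≠ 0 := fun e => hb (e ▸ zero_mem _)
  have hs0 : a + b ≠ 0 := fun e => hb (Submodule.mem_span_singleton.2 ⟨-1, by
    rw [neg_one_smul, eq_neg_of_add_eq_zero_left e, neg_neg]⟩)
  have hba := h.g_swap_zero hab
  have hz : ∀ {p q : W}, (p = a ∨ p = b) → (q = a ∨ q = b) → h.gW p q = 0 := by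
    rintro p q (rfl | rfl) (rfl | rfl)
    exacts [h.g_self _, hab, hba, h.g_self _]
  have h1 := (hall a ha).neg (h.P_mul_zero (h.g_self a) _ _ _ _)
  have h2 := (hall b hb0).neg (h.P_mul_zero (h.g_self b) _ _ _ _)
  have h3 := ((hall _ hs0).add h1 (by
    rw [P_add_add]; simp [add_mul, P_mul, hz, hab, hba, h.g_self])).add h2 (by
    rw [P_add_add]; simp [add_mul, P_mul, hz, hab, hba, h.g_self])
  rwa [P_add_add, show h.P a a G + h.P b b G + (h.P a b G + h.P b a G) + -h.P a a G + -h.P b b G =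
    h.P a b G + h.P b a G by abel] at h3

theorem InD.scalar (s : F) : h.InD M (s • 1) := by
  obtain ⟨w, hw⟩ := exists_ne (0 : W)
  refine InD.of_tau hG (fun u x => by simp) hw ?_
  rw [P_smul]; exact hG.tau w s

theorem InD.add {D E : Module.End F U} (hD : h.InD M D) (hE : h.InD M E) : h.InD M (D + E) := by
  obtain ⟨D', hD', hD⟩ := hD
  obtain ⟨E', hE', hE⟩ := hE
  refine ⟨D' + E', fun u x => by simp [map_add, hD', hE'], fun w v hw hv hwv => ?_⟩
  have := (hD w v hw hv hwv).add (hE w v hw hv hwv)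
    (by simp [add_mul, mul_add, P_mul, h.g_self, hwv, h.g_swap_zero hwv])
  rwa [P_add, P_add, show h.P w v D + h.P w v E + (h.P v w D' + h.P v w E') =
    h.P w v D + h.P v w D' + (h.P w v E + h.P v w E') by abel]

omit [Nontrivial U] [Nontrivial W] hG in
theorem InD.star {D D' : Module.End F U} (hD : h.InD M D) (e : ∀ u x, h.fU (D u) x = h.fU u (D' x)) :
    h.InD M D' := by
  obtain ⟨D₁, hD₁, hD⟩ := hD
  obtain rfl := h.adj_unique hD₁ e
  refine ⟨D, h.adj_symm e, fun w v hw hv hwv => ?_⟩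
  have hv0 : v ≠ 0 := fun e => hv (e ▸ zero_mem _)
  have := hD v w hv0 (fun hm => hv (by
    obtain ⟨s, rfl⟩ := Submodule.mem_span_singleton.1 hm
    have hs : s ≠ 0 := fun e => hw (by rw [e, zero_smul])
    exact Submodule.mem_span_singleton.2 ⟨s⁻¹, by rw [smul_smul, inv_mul_cancel₀ hs, one_smul]⟩))
    (h.g_swap_zero hwv)
  rwa [add_comm] at this

omit hG in
theorem exists_two {w c b : W} (hc : c ∉ Submodule.span F {w}) (hb : b ∉ Submodule.span F ({w, c} : Set W)) :
    ∃ x, h.gW x w = 0 ∧ h.gW x c = 0 ∧ h.gW x b = 1 := by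
  obtain ⟨x₀, hx₀w, hx₀c⟩ := h.exists_perp_one hc
  obtain ⟨x, hxw, hxb⟩ := h.exists_perp_one (w := w) (v := b - h.gW x₀ b • c) (fun hm => hb (by
    obtain ⟨s, hs⟩ := Submodule.mem_span_singleton.1 hm
    exact Submodule.mem_span_pair.2 ⟨s, h.gW x₀ b, by rw [hs, sub_add_cancel]⟩))
  refine ⟨x - h.gW x c • x₀, ?_, ?_, ?_⟩
  · simp [hxw, hx₀w]
  · simp [hx₀c]
  · simp only [map_sub, map_smul, smul_eq_mul] at hxb
    simp only [map_sub, map_smul, LinearMap.sub_apply, LinearMap.smul_apply, smul_eq_mul]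
    linear_combination hxb

omit hG in
theorem exists_perp_two (h5 : 5 ≤ Module.finrank F W) (w c : W) :
    ∃ b, h.gW w b = 0 ∧ h.gW c b = 0 ∧ b ∉ Submodule.span F ({w, c} : Set W) := by
  classical
  let φ : W →ₗ[F] F × F := (h.gW w).prod (h.gW c)
  have hk : 3 ≤ Module.finrank F (LinearMap.ker φ) := by
    have h1 := φ.finrank_range_add_finrank_ker
    have h2 := Submodule.finrank_le (LinearMap.range φ)
    rw [Module.finrank_prod, Module.finrank_self] at h2
    omega
  have hnle : ¬ LinearMap.ker φ ≤ Submodule.span F ({w, c} : Set W) := fun hle => by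
    have h3 : Module.finrank F (Submodule.span F ({w, c} : Set W)) ≤ 2 := finrank_pair_le (F := F) w c
    have := Submodule.finrank_mono hle
    omega
  obtain ⟨b, hb, hbn⟩ := SetLike.not_le_iff_exists.1 hnle
  exact ⟨b, congrArg Prod.fst (LinearMap.mem_ker.1 hb), congrArg Prod.snd (LinearMap.mem_ker.1 hb), hbn⟩

theorem InD.mul (h5 : 5 ≤ Module.finrank F W) {D E : Module.End F U} (hD : h.InD M D) (hE : h.InD M E) :
    h.InD M (D * E) := by
  obtain ⟨D', hD', hD⟩ := hD
  obtain ⟨E', hE', hE⟩ := hE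
  refine ⟨E' * D', fun u x => by rw [Module.End.mul_apply, hD', hE', Module.End.mul_apply],
    fun w c hw hc hwc => ?_⟩
  obtain ⟨b, hwb, hcb, hb⟩ := exists_perp_two (h := h) h5 w c
  obtain ⟨b', hb'w, hb'c, hb'b⟩ := exists_two (h := h) hc hb
  have hbw : b ∉ Submodule.span F {w} := fun hm => hb (Submodule.span_mono (by simp) hm)
  have hc0 : c ≠ 0 := fun e => hc (e ▸ zero_mem _)
  have hbc := h.g_swap_zero hcb
  have hbb' : h.gW b b' = -1 := by rw [h.g_swap, hb'b]
  have hb'0 : b' ≠ 0 := fun e => by rw [e, map_zero, LinearMap.zero_apply] at hb'b; exact zero_ne_one hb'b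
  have hcb' : c ∉ Submodule.span F {b'} := fun hm => hc0 (by
    obtain ⟨s, rfl⟩ := Submodule.mem_span_singleton.1 hm
    rw [map_smul, LinearMap.smul_apply, hb'b, smul_eq_mul, mul_one] at hcb
    rw [hcb, zero_smul])
  have hX := hD w b hw hbw hwb
  have hY := hE b' c hb'0 hcb' hb'c
  have hwb' := h.g_swap_zero hb'w
  have hcb'' := h.g_swap_zero hb'c
  have hcw := h.g_swap_zero hwc
  have hbw' := h.g_swap_zero hwb
  have hXX : (h.P w b D + h.P b w D') * (h.P w b D + h.P b w D') = 0 := by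
    simp [add_mul, mul_add, P_mul, h.g_self, hwb, hbw']
  have hYY : (h.P b' c E + h.P c b' E') * (h.P b' c E + h.P c b' E') = 0 := by
    simp [add_mul, mul_add, P_mul, h.g_self, hb'c, hcb'']
  have hXY : (h.P w b D + h.P b w D') * (h.P b' c E + h.P c b' E') = - h.P w c (D * E) := by
    simp [add_mul, mul_add, P_mul, hbb', hbc, hwb', hwc]
  have hYX : (h.P b' c E + h.P c b' E') * (h.P w b D + h.P b w D') = h.P c w (E' * D') := by
    simp [add_mul, mul_add, P_mul, hb'w, hb'b, hcw, hcb]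
  have hZ := hX.comm hY hXX hYY (by rw [hXY]; simp [mul_add, P_mul, hcw, hcb])
    (by rw [hXY, hYX]; simp [sub_mul, mul_add, P_mul, hcb'', h.g_self, hwb', hwc])
  rw [hXY, hYX] at hZ
  have := hZ.neg (by simp [sub_mul, mul_sub, P_mul, h.g_self, hwc, hcw])
  rwa [neg_sub, sub_neg_eq_add, add_comm] at this

theorem InD.smul (h5 : 5 ≤ Module.finrank F W) (s : F) {D : Module.End F U} (hD : h.InD M D) :
    h.InD M (s • D) := by
  have := (InD.scalar hG s).mul hG h5 hD
  rwa [smul_mul_assoc, one_mul] at this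

theorem InD.sub (h5 : 5 ≤ Module.finrank F W) {D E : Module.End F U} (hD : h.InD M D) (hE : h.InD M E) :
    h.InD M (D - E) := by
  have := hD.add hG (hE.smul hG h5 (-1))
  rwa [neg_one_smul, ← sub_eq_add_neg] at this

/-- Conjugation by the first factor. -/
theorem InD.conj {γ D : Module.End F U} (hγ : h.swap.Act M γ) (hD : h.InD M D) :
    ∃ E, h.InD M E ∧ γ * D = E * γ := by
  obtain ⟨D', hD', hD⟩ := hD
  let e := LinearEquiv.ofBijective γ ⟨hγ.injective hG.le, hγ.surjective hG.le⟩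
  have he : ∀ u, e u = γ u := fun u => rfl
  let E : Module.End F U := γ ∘ₗ D ∘ₗ e.symm.toLinearMap
  let E' : Module.End F U := γ ∘ₗ D' ∘ₗ e.symm.toLinearMap
  have h1 : γ * D = E * γ := LinearMap.ext fun u => congrArg (fun v => γ (D v)) (e.symm_apply_apply u).symm
  have h2 : γ * D' = E' * γ := LinearMap.ext fun u => congrArg (fun v => γ (D' v)) (e.symm_apply_apply u).symm
  have hp : ∀ u u', h.fU (γ u) (γ u') = h.fU u u' := hγ.preserves hG.le
  refine ⟨E, ⟨E', fun u x => ?_, fun w v hw hv hwv => In.actU hG.le hγ h1 h2 (hD w v hw hv hwv)⟩, h1⟩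
  obtain ⟨a, rfl⟩ := e.surjective u
  obtain ⟨b, rfl⟩ := e.surjective x
  simp only [E, E', LinearMap.comp_apply, LinearEquiv.coe_coe, LinearEquiv.symm_apply_apply]
  rw [he, he, hp, hp, hD']

/-- Conjugation by a transvection of the first factor. -/
theorem InD.conj_tv {D : Module.End F U} (hD : h.InD M D) (z : U) :
    h.InD M ((1 + h.rk z z) * D * (1 - h.rk z z)) := by
  have hact : h.swap.Act M (1 + (1 : F) • h.rk z z) := act_tv hG.swap z 1
  rw [one_smul] at hact
  obtain ⟨E, hE, e⟩ := hD.conj hG hact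
  have h0 : (1 + h.rk z z) * (1 - h.rk z z) = 1 := by
    rw [add_mul, one_mul, mul_sub, mul_one, rk_mul, h.f_self, zero_smul, sub_zero, sub_add_cancel]
  rwa [e, mul_assoc, h0, mul_one]

theorem InD.rk_conj {γ : Module.End F U} (hγ : h.swap.Act M γ) {x r : U} (hD : h.InD M (h.rk x r)) :
    h.InD M (h.rk (γ x) (γ r)) := by
  obtain ⟨E, hE, e⟩ := hD.conj hG hγ
  have hp : ∀ u u', h.fU (γ u) (γ u') = h.fU u u' := hγ.preserves hG.le
  have : E = h.rk (γ x) (γ r) := LinearMap.ext fun u => by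
    obtain ⟨v, rfl⟩ := hγ.surjective hG.le u
    have := LinearMap.congr_fun e v
    rw [Module.End.mul_apply, Module.End.mul_apply, rk_apply, map_smul] at this
    rw [← this, rk_apply, hp]
  rwa [← this]

/-- From one rank one member all are obtained. -/
theorem InD.all_rk (h5 : 5 ≤ Module.finrank F W) {y r : U} (hy : y ≠ 0) (hr : r ≠ 0) (hD : h.InD M (h.rk y r))
    (x t : U) : h.InD M (h.rk x t) := by
  have hyy : h.InD M (h.rk y y) := by
    by_cases hm : r ∈ Submodule.span F {y}
    · obtain ⟨s, rfl⟩ := Submodule.mem_span_singleton.1 hm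
      have hs : s ≠ 0 := fun e => hr (by rw [e, zero_smul])
      have := hD.smul hG h5 s⁻¹
      rwa [show s⁻¹ • h.rk y (s • y) = h.rk y y from LinearMap.ext fun u => by
        simp [rk_apply, smul_smul, hs]] at this
    obtain ⟨a, hay, har⟩ : ∃ a, h.fU a y = 0 ∧ h.fU a r = 1 := h.swap.exists_perp_one hm
    have hstar : h.InD M (- h.rk r y) := hD.star fun u x => by
      simp only [rk_apply, LinearMap.neg_apply, map_smul, map_neg, LinearMap.smul_apply, smul_eq_mul]
      rw [h.f_swap r u]; ring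
    have h1 : h.InD M (h.rk r y) := by
      have := hstar.smul hG h5 (-1)
      rwa [neg_one_smul, neg_neg] at this
    have h2 := (hD.mul hG h5 (h1.rk_conj hG (act_tv hG.swap a 1))).smul hG h5 (-1)
    rw [rk_mul, smul_smul] at h2
    simp only [LinearMap.add_apply, Module.End.one_apply, one_smul, LinearMap.smulRight_apply] at h2
    change h.InD M ((-1 * h.fU r (r + h.fU a r • a)) • h.rk y (y + h.fU a y • a)) at h2
    rwa [hay, har, one_smul, zero_smul, add_zero, map_add, h.f_self, zero_add, h.f_swap r a, har, neg_mul_neg,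
      one_mul, one_smul] at h2
  have hdiag : ∀ p, h.InD M (h.rk p p) := fun p => by
    by_cases hp : p = 0
    · subst hp
      have := (InD.scalar hG (0 : F))
      rwa [zero_smul, show (0 : Module.End F U) = h.rk 0 0 from LinearMap.ext fun u => by simp [rk_apply]] at this
    obtain ⟨γ, hγ, e⟩ := exists_move_zero hG.swap hy hp
    have := hyy.rk_conj hG hγ
    rwa [e] at this
  by_cases hx : x = 0
  · subst hx
    have := (InD.scalar hG (0 : F))
    rwa [zero_smul, show (0 : Module.End F U) = h.rk 0 t from LinearMap.ext fun u => by simp [rk_apply]] at this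
  by_cases ht : t = 0
  · subst ht
    have := (InD.scalar hG (0 : F))
    rwa [zero_smul, show (0 : Module.End F U) = h.rk x 0 from LinearMap.ext fun u => by simp [rk_apply]] at this
  obtain ⟨s, -, hsx, hst⟩ : ∃ s, h.fU s 0 = 0 ∧ h.fU s x ≠ 0 ∧ h.fU s t ≠ 0 := h.swap.exists_common
    (by rwa [Submodule.span_zero_singleton, Submodule.mem_bot]) (by rwa [Submodule.span_zero_singleton, Submodule.mem_bot])
  have := ((hdiag x).mul hG h5 (hdiag s)).mul hG h5 (hdiag t)
  rw [rk_mul, smul_mul_assoc, rk_mul, smul_smul] at this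
  have h0 : h.fU x s * h.fU s t ≠ 0 := mul_ne_zero (fun e => hsx (by rw [h.f_swap, e, neg_zero])) hst
  have := this.smul hG h5 (h.fU x s * h.fU s t)⁻¹
  rwa [smul_smul, inv_mul_cancel₀ h0, one_smul] at this

omit hG in
theorem exists_moved {D : Module.End F U} (hD : ∀ s : F, D ≠ s • 1) : ∃ z, D z ∉ Submodule.span F {z} := by
  by_contra e
  push Not at e
  obtain ⟨z₀, hz₀⟩ := exists_ne (0 : U)
  obtain ⟨a, ha⟩ := Submodule.mem_span_singleton.1 (e z₀)
  refine hD a (LinearMap.ext fun z => ?_)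
  simp only [LinearMap.smul_apply, Module.End.one_apply]
  obtain ⟨b, hb⟩ := Submodule.mem_span_singleton.1 (e z)
  by_cases hz : z ∈ Submodule.span F {z₀}
  · obtain ⟨s, rfl⟩ := Submodule.mem_span_singleton.1 hz
    rw [map_smul, ← ha, smul_comm]
  obtain ⟨c, hc⟩ := Submodule.mem_span_singleton.1 (e (z₀ + z))
  rw [map_add, ← ha, ← hb, smul_add] at hc
  by_cases hcb : c = b
  · subst hcb
    rw [add_left_inj] at hc
    rw [← hb, smul_left_injective F hz₀ hc]
  refine absurd (Submodule.mem_span_singleton.2 ⟨(c - b)⁻¹ * (a - c), ?_⟩) hz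
  have h1 : (c - b) • z = (a - c) • z₀ := by linear_combination (norm := module) hc
  rw [mul_smul, ← h1, smul_smul, inv_mul_cancel₀ (sub_ne_zero.2 hcb), one_smul]

/-- A non-scalar member yields all rank one endomorphisms. -/
theorem InD.all_of_nonscalar (h5 : 5 ≤ Module.finrank F W) (h2 : 2 ≤ Module.finrank F U)
    (hex : 3 ≤ Module.finrank F U ∨ ∃ μ : F, μ ≠ 0 ∧ μ ≠ 1) {D : Module.End F U} (hD : h.InD M D)
    (hns : ∀ s : F, D ≠ s • 1) (x t : U) : h.InD M (h.rk x t) := by
  obtain ⟨D', hadj, -⟩ := id hD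
  obtain ⟨z, hz⟩ := exists_moved hns
  have hz0 : z ≠ 0 := fun e => hz (by rw [e, map_zero]; exact zero_mem _)
  have hk : Module.finrank F (LinearMap.ker (h.fU z)) + 1 = Module.finrank F U :=
    Module.Dual.finrank_ker_add_one_of_ne_zero fun e => hz0 (h.fnd.1 z fun u => by rw [e, LinearMap.zero_apply])
  by_cases h3 : 3 ≤ Module.finrank F U
  · obtain ⟨y₁, hy₁, hy₁z⟩ : ∃ y ∈ LinearMap.ker (h.fU z), y ∉ Submodule.span F {z} :=
      SetLike.not_le_iff_exists.1 fun hle => by
        have := Submodule.finrank_mono hle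
        rw [finrank_span_singleton hz0] at this
        omega
    rw [LinearMap.mem_ker] at hy₁
    obtain ⟨y₀, hy₀, hy₀D⟩ : ∃ y, h.fU y z = 0 ∧ h.fU y (D z) = 1 := h.swap.exists_perp_one hz
    obtain ⟨y, hzy, hyD, hyz⟩ : ∃ y, h.fU z y = 0 ∧ h.fU y (D z) ≠ 0 ∧ y ∉ Submodule.span F {z} := by
      by_cases hm : y₀ ∈ Submodule.span F {z}
      · by_cases h1 : h.fU y₁ (D z) = 0
        · refine ⟨y₀ + y₁, by rw [map_add, h.f_swap z y₀, hy₀, hy₁, neg_zero, add_zero],
            by rw [map_add, LinearMap.add_apply, hy₀D, h1, add_zero]; exact one_ne_zero,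
            fun hs => hy₁z ?_⟩
          simpa using sub_mem hs hm
        · exact ⟨y₁, hy₁, h1, hy₁z⟩
      · exact ⟨y₀, by rw [h.f_swap, hy₀, neg_zero], by rw [hy₀D]; exact one_ne_zero, hm⟩
    have hy0 : y ≠ 0 := fun e => hyz (e ▸ zero_mem _)
    have hy' : h.fU y z = 0 := by rw [h.f_swap, hzy, neg_zero]
    set p := D' z - h.fU z (D z) • z with hp
    have hΔ := (hD.conj_tv hG z).sub hG h5 hD
    have hT := (hΔ.conj_tv hG y).sub hG h5 hΔ
    obtain ⟨T, rfl⟩ : ∃ T, T = (1 + h.rk y y) * ((1 + h.rk z z) * D * (1 - h.rk z z) - D) * (1 - h.rk y y) -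
        ((1 + h.rk z z) * D * (1 - h.rk z z) - D) := ⟨_, rfl⟩
    have hTe : (1 + h.rk y y) * ((1 + h.rk z z) * D * (1 - h.rk z z) - D) * (1 - h.rk y y) -
        ((1 + h.rk z z) * D * (1 - h.rk z z) - D) = (- h.fU p y) • h.rk z y + (- h.fU y (D z)) • h.rk y z := by
      refine LinearMap.ext fun u => ?_
      simp only [LinearMap.sub_apply, LinearMap.add_apply, Module.End.mul_apply, Module.End.one_apply,
        LinearMap.smul_apply, rk_apply, map_add, map_sub, map_smul, LinearMap.add_apply, LinearMap.sub_apply,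
        smul_eq_mul, hzy, hy', h.f_self, hp, ← h.adj_symm hadj]
      module
    rw [hTe] at hT
    set ψ := - h.fU p y
    set φ := - h.fU y (D z)
    have hφ : φ ≠ 0 := neg_ne_zero.2 hyD
    by_cases hψ : ψ = 0
    · rw [hψ, zero_smul, zero_add] at hT
      have := hT.smul hG h5 φ⁻¹
      rw [smul_smul, inv_mul_cancel₀ hφ, one_smul] at this
      exact this.all_rk hG h5 hy0 hz0 x t
    obtain ⟨z', hz'y, hz'z⟩ : ∃ a, h.fU a y = 0 ∧ h.fU a z = 1 := h.swap.exists_perp_one (w := y) (v := z) fun hm => by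
      obtain ⟨s, hs⟩ := Submodule.mem_span_singleton.1 hm
      have hs0 : s ≠ 0 := fun e => hz0 (by rw [← hs, e, zero_smul])
      exact hyz (Submodule.mem_span_singleton.2 ⟨s⁻¹, by rw [← hs, smul_smul, inv_mul_cancel₀ hs0, one_smul]⟩)
    have hzz' : h.fU z z' = -1 := by rw [h.f_swap, hz'z]
    have hyz' : h.fU y z' = 0 := by rw [h.f_swap, hz'y, neg_zero]
    have hT2 := hT.conj_tv hG z'
    have e2 : (1 + h.rk z' z') * (ψ • h.rk z y + φ • h.rk y z) * (1 - h.rk z' z') =
        ψ • h.rk (z + z') y + φ • h.rk y (z + z') := by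
      refine LinearMap.ext fun u => ?_
      simp only [LinearMap.sub_apply, LinearMap.add_apply, Module.End.mul_apply, Module.End.one_apply,
        LinearMap.smul_apply, rk_apply, map_add, map_sub, map_smul, LinearMap.add_apply, LinearMap.sub_apply,
        smul_eq_mul, hz'z, hz'y, hzz', hyz', h.f_self]
      module
    rw [e2] at hT2
    have h6 := hT.mul hG h5 hT2
    have e3 : (ψ • h.rk z y + φ • h.rk y z) * (ψ • h.rk (z + z') y + φ • h.rk y (z + z')) =
        (-(φ * ψ)) • h.rk y y := by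
      simp [add_mul, mul_add, rk_mul, smul_smul, h.f_self, hzy, hy', hzz', hyz', mul_comm]
    rw [e3] at h6
    have := h6.smul hG h5 (-(φ * ψ))⁻¹
    rw [smul_smul, inv_mul_cancel₀ (neg_ne_zero.2 (mul_ne_zero hφ hψ)), one_smul] at this
    exact this.all_rk hG h5 hy0 hy0 x t
  obtain ⟨μ, hμ0, hμ1⟩ := hex.resolve_left h3
  have ha : h.fU z (D z) ≠ 0 := fun e => hz (by
    rw [show Submodule.span F {z} = LinearMap.ker (h.fU z) from Submodule.eq_of_le_of_finrank_le
      ((Submodule.span_singleton_le_iff_mem _ _).2 (LinearMap.mem_ker.2 (h.f_self z)))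
      (by rw [finrank_span_singleton hz0]; omega)]
    exact LinearMap.mem_ker.2 e)
  obtain ⟨γ, hγ, hγe⟩ : ∃ γ, h.swap.Act M γ ∧ γ = 1 + μ • h.rk z z := ⟨_, act_tv hG.swap z μ, rfl⟩
  obtain ⟨E, hE, e⟩ := hD.conj hG hγ
  subst hγe
  have h0 : (1 + μ • h.rk z z) * (1 - μ • h.rk z z) = 1 := by
    rw [add_mul, one_mul, mul_sub, mul_one, smul_mul_smul_comm, rk_mul, h.f_self, zero_smul, smul_zero, sub_zero,
      sub_add_cancel]
  have hEe : E = (1 + μ • h.rk z z) * D * (1 - μ • h.rk z z) := by rw [e, mul_assoc, h0, mul_one]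
  have h6 := (hE.sub hG h5 hD).sub hG h5 (((hD.conj_tv hG z).sub hG h5 hD).smul hG h5 μ)
  have e3 : E - D - μ • ((1 + h.rk z z) * D * (1 - h.rk z z) - D) =
      ((μ - μ * μ) * h.fU z (D z)) • h.rk z z := by
    refine LinearMap.ext fun u => ?_
    rw [hEe]
    simp only [LinearMap.sub_apply, LinearMap.add_apply, Module.End.mul_apply, Module.End.one_apply,
      LinearMap.smul_apply, rk_apply, map_add, map_sub, map_smul, smul_eq_mul]
    module
  rw [e3] at h6
  have hne : (μ - μ * μ) * h.fU z (D z) ≠ 0 := mul_ne_zero (fun e => by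
    rcases mul_eq_zero.1 (show μ * (1 - μ) = 0 by linear_combination e) with h' | h'
    exacts [hμ0 h', hμ1 (sub_eq_zero.1 h').symm]) ha
  have := h6.smul hG h5 ((μ - μ * μ) * h.fU z (D z))⁻¹
  rw [smul_smul, inv_mul_cancel₀ hne, one_smul] at this
  exact this.all_rk hG h5 hz0 hz0 x t

end TData

end CfsgLib.TensorSp
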