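import Cfsg.Agent.Lib.OrthMax.Nondeg

/-! A quadratic space as a tensor product of two symplectic spaces. -/

set_option autoImplicit false
set_option linter.unusedSectionVars false
set_option linter.unusedVariables false

namespace CfsgLib.TensorSp

open QuadraticMap CfsgLib.Geometry CfsgLib.OrthMax

variable {F V U W : Type*} [Field F] [AddCommGroup V] [Module F V] [AddCommGroup U] [Module F U]
  [AddCommGroup W] [Module F W]
variable [FiniteDimensional F V] [FiniteDimensional F U] [FiniteDimensional F W]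

/-- The polar form is the product of two alternating forms and the pure tensors are singular. -/
structure TData (Q : QuadraticForm F V) (U W : Type*) [AddCommGroup U] [Module F U] [AddCommGroup W]
    [Module F W] where
  /-- Pure tensors. -/
  tp : U →ₗ[F] W →ₗ[F] V
  /-- The form on the first factor. -/
  fU : LinearMap.BilinForm F U
  /-- The form on the second factor. -/
  gW : LinearMap.BilinForm F W
  fAlt : fU.IsAlt
  gAlt : gW.IsAlt
  fnd : fU.Nondegenerate
  gnd : gW.Nondegenerate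
  pol : ∀ u u' w w', polar Q (tp u w) (tp u' w') = fU u u' * gW w w'
  sing : ∀ u w, Q (tp u w) = 0
  sep : ∀ T, (∀ u w, polar Q (tp u w) T = 0) → T = 0

variable {Q : QuadraticForm F V}

/-- The two factors exchanged. -/
def TData.swap (h : TData Q U W) : TData Q W U where
  tp := h.tp.flip
  fU := h.gW
  gW := h.fU
  fAlt := h.gAlt
  gAlt := h.fAlt
  fnd := h.gnd
  gnd := h.fnd
  pol u u' w w' := by rw [LinearMap.flip_apply, LinearMap.flip_apply, h.pol, mul_comm]
  sing u w := h.sing w u
  sep T hT := h.sep T fun u w => hT w u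

namespace TData

variable (h : TData Q U W)

theorem f_self (u : U) : h.fU u u = 0 := h.fAlt u

theorem g_self (w : W) : h.gW w w = 0 := h.gAlt w

theorem f_swap (u x : U) : h.fU u x = - h.fU x u := (LinearMap.BilinForm.IsAlt.neg_eq h.fAlt x u).symm

theorem g_swap (u x : W) : h.gW u x = - h.gW x u := (LinearMap.BilinForm.IsAlt.neg_eq h.gAlt x u).symm

theorem g_swap_zero {u x : W} (e : h.gW u x = 0) : h.gW x u = 0 := by rw [h.g_swap, e, neg_zero]

theorem flip_nd : h.fU.flip.Nondegenerate := LinearMap.flip_nondegenerate.2 h.fnd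

/-- Contraction with a vector of the second factor. -/
noncomputable def c : W →ₗ[F] V →ₗ[F] U :=
  LinearMap.mk₂ F (fun w T => (h.fU.flip.toDual h.flip_nd).symm ((polarBilin Q T) ∘ₗ h.tp.flip w))
    (fun w w' T => by rw [map_add, LinearMap.comp_add, map_add])
    (fun s w T => by rw [map_smul, LinearMap.comp_smul, map_smul])
    (fun w T T' => by rw [map_add, LinearMap.add_comp, map_add])
    (fun s w T => by rw [map_smul, LinearMap.smul_comp, map_smul])

theorem pol_c (u : U) (w : W) (T : V) : h.fU u (h.c w T) = polar Q (h.tp u w) T := by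
  simp only [c, LinearMap.mk₂_apply]
  show h.fU.flip _ u = _
  rw [LinearMap.BilinForm.apply_toDual_symm_apply, LinearMap.comp_apply, LinearMap.flip_apply,
    polarBilin_apply_apply, QuadraticMap.polar_comm]

theorem ext_f {x y : U} (e : ∀ u, h.fU u x = h.fU u y) : x = y :=
  sub_eq_zero.1 (h.fnd.2 (x - y) fun u => by rw [map_sub, e u, sub_self])

theorem ext_f' {x y : U} (e : ∀ u, h.fU x u = h.fU y u) : x = y :=
  h.ext_f fun u => by rw [h.f_swap u x, e u, ← h.f_swap]

theorem polar_tp (u : U) (w : W) (T : V) : polar Q (h.tp u w) T = h.fU u (h.c w T) := (h.pol_c u w T).symm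

theorem polar_tp' (u : U) (w : W) (T : V) : polar Q T (h.tp u w) = h.fU u (h.c w T) := by
  rw [QuadraticMap.polar_comm, h.polar_tp]

@[simp] theorem c_tp (u : U) (w w' : W) : h.c w (h.tp u w') = h.gW w w' • u :=
  h.ext_f fun x => by rw [h.pol_c, h.pol, map_smul, smul_eq_mul, mul_comm]

theorem eq_zero_of_c {T : V} (e : ∀ w, h.c w T = 0) : T = 0 :=
  h.sep T fun u w => by rw [h.polar_tp, e, map_zero]

theorem exists_g_one {w : W} (hw : w ≠ 0) : ∃ x, h.gW x w = 1 := by
  obtain ⟨x, hx⟩ : ∃ x, h.gW x w ≠ 0 := by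
    by_contra e
    push Not at e
    exact hw (h.gnd.2 w e)
  exact ⟨(h.gW x w)⁻¹ • x, by rw [map_smul, LinearMap.smul_apply, smul_eq_mul, inv_mul_cancel₀ hx]⟩

theorem mem_span_of_perp {w v : W} (e : ∀ x, h.gW x w = 0 → h.gW x v = 0) : v ∈ Submodule.span F {w} := by
  by_cases hw : w = 0
  · subst hw
    rw [h.gnd.2 v fun x => e x (by rw [map_zero])]
    exact zero_mem _
  obtain ⟨x₀, hx₀⟩ := h.exists_g_one hw
  refine Submodule.mem_span_singleton.2 ⟨h.gW x₀ v, (sub_eq_zero.1 (h.gnd.2 _ fun x => ?_)).symm⟩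
  have h1 := e (x - h.gW x w • x₀) (by
    rw [map_sub, map_smul, LinearMap.sub_apply, LinearMap.smul_apply, hx₀, smul_eq_mul, mul_one, sub_self])
  rw [map_sub, map_smul, LinearMap.sub_apply, LinearMap.smul_apply, smul_eq_mul] at h1
  rw [map_sub, map_smul, smul_eq_mul]
  linear_combination h1

theorem exists_perp_one {w v : W} (hv : v ∉ Submodule.span F {w}) : ∃ x, h.gW x w = 0 ∧ h.gW x v = 1 := by
  obtain ⟨x, hxw, hxv⟩ : ∃ x, h.gW x w = 0 ∧ h.gW x v ≠ 0 := by
    by_contra e
    push Not at e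
    exact hv (h.mem_span_of_perp e)
  exact ⟨(h.gW x v)⁻¹ • x, by rw [map_smul, LinearMap.smul_apply, hxw, smul_zero],
    by rw [map_smul, LinearMap.smul_apply, smul_eq_mul, inv_mul_cancel₀ hxv]⟩

theorem exists_common {w a b : W} (ha : a ∉ Submodule.span F {w}) (hb : b ∉ Submodule.span F {w}) :
    ∃ x, h.gW x w = 0 ∧ h.gW x a ≠ 0 ∧ h.gW x b ≠ 0 := by
  obtain ⟨x, hx, hxa⟩ := h.exists_perp_one ha
  obtain ⟨y, hy, hyb⟩ := h.exists_perp_one hb
  by_cases h1 : h.gW x b = 0
  · by_cases h2 : h.gW y a = 0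
    · exact ⟨x + y, by rw [map_add, LinearMap.add_apply, hx, hy, add_zero],
        by rw [map_add, LinearMap.add_apply, hxa, h2, add_zero]; exact one_ne_zero,
        by rw [map_add, LinearMap.add_apply, h1, hyb, zero_add]; exact one_ne_zero⟩
    · exact ⟨y, hy, h2, by rw [hyb]; exact one_ne_zero⟩
  · exact ⟨x, hx, by rw [hxa]; exact one_ne_zero, h1⟩

theorem tp_ne_zero {u : U} {w : W} (hu : u ≠ 0) (hw : w ≠ 0) : h.tp u w ≠ 0 := fun e => by
  obtain ⟨x, hx⟩ := h.exists_g_one hw
  have := h.c_tp u x w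
  rw [e, map_zero, hx, one_smul] at this
  exact hu this.symm

/-- The pure tensors with a given second factor. -/
def A (w : W) : Submodule F V := LinearMap.range (h.tp.flip w)

theorem mem_A {w : W} {T : V} : T ∈ h.A w ↔ ∃ u, h.tp u w = T := Iff.rfl

theorem tp_mem_A (u : U) (w : W) : h.tp u w ∈ h.A w := ⟨u, rfl⟩

theorem Q_A {w : W} {T : V} (hT : T ∈ h.A w) : Q T = 0 := by
  obtain ⟨u, rfl⟩ := hT; exact h.sing u w

theorem c_A {w v : W} {T : V} (hwv : h.gW v w = 0) (hT : T ∈ h.A w) : h.c v T = 0 := by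
  obtain ⟨u, rfl⟩ := hT
  rw [LinearMap.flip_apply, h.c_tp, hwv, zero_smul]

theorem tp_injective {w : W} (hw : w ≠ 0) : Function.Injective (h.tp.flip w) :=
  (injective_iff_map_eq_zero _).2 fun u e => by_contra fun hu => h.tp_ne_zero hu hw e

theorem finrank_A {w : W} (hw : w ≠ 0) : Module.finrank F (h.A w) = Module.finrank F U :=
  LinearMap.finrank_range_of_inj (h.tp_injective hw)

theorem tp_mem_A_iff {w v : W} {u : U} (hu : u ≠ 0) (hm : h.tp u v ∈ h.A w) : v ∈ Submodule.span F {w} := by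
  refine h.mem_span_of_perp fun x hx => ?_
  have := h.c_A hx hm
  rw [h.c_tp, smul_eq_zero] at this
  exact this.resolve_right hu

theorem mem_A_of_c {w : W} (hw : w ≠ 0) {T : V} (e : ∀ x, h.gW x w = 0 → h.c x T = 0) : T ∈ h.A w := by
  obtain ⟨x₀, hx₀⟩ := h.exists_g_one hw
  refine ⟨h.c x₀ T, (sub_eq_zero.1 (h.eq_zero_of_c fun x => ?_)).symm⟩
  have h1 := e (x - h.gW x w • x₀) (by
    rw [map_sub, map_smul, LinearMap.sub_apply, LinearMap.smul_apply, hx₀, smul_eq_mul, mul_one, sub_self])
  rw [map_sub, map_smul, LinearMap.sub_apply, LinearMap.smul_apply] at h1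
  rw [map_sub, LinearMap.flip_apply, h.c_tp]
  exact h1

theorem mem_A_of_perp {w : W} (hw : w ≠ 0) {T : V}
    (e : ∀ u v, h.gW v w = 0 → polar Q (h.tp u v) T = 0) : T ∈ h.A w :=
  h.mem_A_of_c hw fun x hx => h.ext_f fun u => by rw [map_zero, h.pol_c, e u x hx]

/-- The vectors orthogonal to `A w` are spanned by the pure tensors orthogonal to it. -/
theorem mem_span_perp (hQ : (polarBilin Q).Nondegenerate) {w : W} (hw : w ≠ 0) {T : V} (hT : h.c w T = 0) :
    T ∈ Submodule.span F {S | ∃ u v, h.gW v w = 0 ∧ h.tp u v = S} := by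
  rw [← polarPerp_polarPerp hQ (Submodule.span F _)]
  refine mem_polarPerp.2 fun R hR => ?_
  have hA : R ∈ h.A w := h.mem_A_of_perp hw fun u v hv =>
    mem_polarPerp.1 hR _ (Submodule.subset_span ⟨u, v, hv, rfl⟩)
  obtain ⟨u, rfl⟩ := hA
  rw [LinearMap.flip_apply, h.polar_tp, hT, map_zero]

/-- A map killing the pure tensors orthogonal to `A w` kills that whole orthogonal. -/
theorem map_eq_zero_of_tp (hQ : (polarBilin Q).Nondegenerate) {X : Type*} [AddCommGroup X] [Module F X]
    (φ : V →ₗ[F] X) {w : W} (hw : w ≠ 0) (e : ∀ u v, h.gW v w = 0 → φ (h.tp u v) = 0) {T : V}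
    (hT : h.c w T = 0) : φ T = 0 :=
  (Submodule.span_le (p := LinearMap.ker φ)).2 (by rintro _ ⟨u, v, hv, rfl⟩; exact e u v hv)
    (h.mem_span_perp hQ hw hT)

/-- The basic endomorphisms. -/
noncomputable def P (a b : W) (D : Module.End F U) : Module.End F V := h.tp.flip a ∘ₗ D ∘ₗ h.c b

theorem P_apply (a b : W) (D : Module.End F U) (T : V) : h.P a b D T = h.tp (D (h.c b T)) a := rfl

theorem P_mul (a b a' b' : W) (D D' : Module.End F U) :
    h.P a b D * h.P a' b' D' = h.gW b a' • h.P a b' (D * D') := LinearMap.ext fun T => by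
  simp [P_apply, Module.End.mul_apply]

theorem P_mul_zero {b a' : W} (e : h.gW b a' = 0) (a b' : W) (D D' : Module.End F U) :
    h.P a b D * h.P a' b' D' = 0 := by rw [P_mul, e, zero_smul]

theorem P_neg (a b : W) (D : Module.End F U) : h.P a b (-D) = - h.P a b D :=
  LinearMap.ext fun T => by simp [P_apply]

theorem P_add (a b : W) (D D' : Module.End F U) : h.P a b (D + D') = h.P a b D + h.P a b D' :=
  LinearMap.ext fun T => by simp [P_apply]

theorem P_smul (a b : W) (s : F) (D : Module.End F U) : h.P a b (s • D) = s • h.P a b D :=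
  LinearMap.ext fun T => by simp [P_apply]

theorem P_add_add (a b : W) (D : Module.End F U) :
    h.P (a + b) (a + b) D = h.P a a D + h.P b b D + (h.P a b D + h.P b a D) :=
  LinearMap.ext fun T => by simp only [P_apply, LinearMap.add_apply, map_add]; abel

end TData

end CfsgLib.TensorSp
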