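import Cfsg.Agent.Lib.OrthMax.TensorSp.Split
import Cfsg.Agent.Lib.OrthMax.DecompBasic

/-! The dichotomy for groups containing a tensor product of two symplectic groups. -/

set_option autoImplicit false
set_option linter.unusedSectionVars false
set_option linter.unusedVariables false
set_option linter.unusedSimpArgs false

namespace CfsgLib.TensorSp

open QuadraticMap CfsgLib.Geometry CfsgLib.OrthMax

variable {F V U W : Type*} [Field F] [Finite F] [AddCommGroup V] [Module F V] [AddCommGroup U] [Module F U]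
  [AddCommGroup W] [Module F W]
variable [FiniteDimensional F V] [FiniteDimensional F U] [FiniteDimensional F W]
variable {Q : QuadraticForm F V} {M : Subgroup (V ≃ₗ[F] V)}

namespace TData

variable {h : TData Q U W} [Nontrivial U] [Nontrivial W] (hG : h.Gens M)

include hG

omit [Finite F] in
/-- Root elements at pure tensors. -/
theorem siegIn_tp (hall : ∀ x r, h.InD M (h.rk x r)) {w v : W} (hw : w ≠ 0) (hv : v ∉ Submodule.span F {w})
    (hwv : h.gW w v = 0) (z z' : U) : SiegIn Q M (h.tp z w) (h.tp z' v) := by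
  intro he hx
  obtain ⟨D', hD', hIn⟩ := hall (-z) z'
  obtain rfl : D' = h.rk z' z := h.adj_unique hD' fun u x => by
    simp only [rk_apply, map_smul, map_neg, LinearMap.smul_apply, LinearMap.neg_apply, smul_eq_mul]
    rw [h.f_swap u z']; ring
  obtain ⟨g, hg, eg⟩ := hIn w v hw hv hwv
  convert hg using 1
  refine LinearEquiv.ext fun T => ?_
  rw [eg, siegel_apply, h.sing, h.polar_tp', h.polar_tp']
  simp only [LinearMap.add_apply, P_apply, rk_apply, map_smul, map_neg, LinearMap.smul_apply, LinearMap.neg_apply]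
  module

theorem full_tp (hQ : (polarBilin Q).Nondegenerate) (h5 : 5 ≤ Module.finrank F W)
    (hall : ∀ x r, h.InD M (h.rk x r)) {z : U} {w : W} (hw : w ≠ 0) : Full Q M (h.tp z w) := by
  have he := h.sing z w
  set R := rootSpace Q M he
  obtain ⟨w₁, hw₁⟩ := h.exists_g_one hw
  have hw2 : h.gW w (-w₁) = 1 := by rw [map_neg, h.g_swap, hw₁, neg_neg]
  have hne : -w₁ ≠ 0 := fun e => by rw [e, map_zero] at hw2; exact zero_ne_one hw2
  have h2w : -w₁ ∉ Submodule.span F {w} := fun hm => by
    obtain ⟨s, hs⟩ := Submodule.mem_span_singleton.1 hm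
    rw [← hs, map_smul, h.g_self, smul_zero] at hw2
    exact zero_ne_one hw2
  obtain ⟨v', hwv', h2v', hv'⟩ := exists_perp_two (h := h) h5 w (-w₁)
  obtain ⟨v, hvw, hv2, hvv'⟩ := exists_two (h := h) h2w hv'
  have hv'w : v' ∉ Submodule.span F {w} := fun hm => hv' (Submodule.span_mono (by simp) hm)
  have hv'2 : v' ∉ Submodule.span F {-w₁} := fun hm => hv' (Submodule.span_mono (by simp) hm)
  have hmem : ∀ u x, h.gW x w = 0 → x ∉ Submodule.span F {w} → h.tp u x ∈ R := fun u x hx hxn => by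
    have hwx := h.g_swap_zero hx
    refine ⟨by rw [h.pol, hwx, mul_zero], fun t => ?_⟩
    have := siegIn_tp hG hall hw hxn hwx z (t • u)
    rwa [map_smul, LinearMap.smul_apply] at this
  have hperp : ∀ u x, h.gW x w = 0 → h.tp u x ∈ R := fun u x hx => by
    by_cases hm : x ∈ Submodule.span F {w}
    · have := R.sub_mem (hmem u (x + v') (by rw [map_add, LinearMap.add_apply, hx, h.g_swap_zero hwv', add_zero])
        fun hs => hv'w (by simpa using Submodule.sub_mem _ hs hm)) (hmem u v' (h.g_swap_zero hwv') hv'w)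
      simpa [map_add] using this
    · exact hmem u x hx hm
  intro T he' hT
  have hker : T - h.tp (h.c w T) (-w₁) ∈ R := by
    refine (Submodule.span_le.2 ?_) (h.mem_span_perp hQ hw (by rw [map_sub, h.c_tp, hw2, one_smul, sub_self]))
    rintro _ ⟨u, x, hx, rfl⟩
    exact hperp u x hx
  have hy : h.fU z (h.c w T) = 0 := by rw [h.pol_c]; exact hT
  set y := h.c w T
  suffices hY : h.tp y (-w₁) ∈ R by
    have := R.add_mem hker hY
    rw [sub_add_cancel] at this
    exact this.2.one he' hT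
  obtain ⟨u₀, hu₀⟩ := exists_ne (0 : U)
  obtain ⟨u', hu'⟩ := h.swap.exists_g_one hu₀
  change h.fU u' u₀ = 1 at hu'
  have hpq : polar Q (h.tp y (-w₁)) (h.tp u' v') = 0 := by rw [h.pol, h2v', mul_zero]
  have hp := h.sing y (-w₁)
  have hg := siegIn_tp hG hall hne hv'2 h2v' y u' hp hpq
  have hx₀ := hmem u₀ v hvw fun hm => by
    obtain ⟨s, rfl⟩ := Submodule.mem_span_singleton.1 hm
    rw [map_smul, LinearMap.smul_apply, hwv', smul_zero] at hvv'
    exact zero_ne_one hvv'
  refine ⟨by rw [h.pol, hy, zero_mul], hx₀.2.diff hg (hG.le hg) he hx₀.1 ?_ ?_⟩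
  · rw [siegel_apply, h.sing, h.pol, h.pol, hy, hwv']
    module
  · rw [siegel_apply, h.sing, h.pol, h.pol, hv2, hvv', h.f_swap u₀ u', hu']
    module

/-- Either the whole Siegel group, or the lines are permuted. -/
theorem dichotomy (hQ : (polarBilin Q).Nondegenerate) (hm : Module.finrank F U + 2 ≤ Module.finrank F W)
    (h5 : 5 ≤ Module.finrank F W) (h2 : 2 ≤ Module.finrank F U)
    (hex : 3 ≤ Module.finrank F U ∨ ∃ μ : F, μ ≠ 0 ∧ μ ≠ 1) :
    siegelGroup Q ≤ M ∨ ∀ g ∈ M, ∀ w : W, w ≠ 0 → ∃ w', w' ≠ 0 ∧ ∀ u, g (h.tp u w) ∈ h.A w' := by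
  by_cases hst : ∃ L, h.Stray M L
  · refine Or.inl ?_
    obtain ⟨L, hL, w, hw, hp⟩ := exists_stray_perp hG hQ hm h5 hst
    obtain ⟨D, hD, hns⟩ := exists_nonscalar hG hQ h5 hL hw hp
    have hall := fun x r => hD.all_of_nonscalar hG h5 h2 hex hns x r
    obtain ⟨w', hw'⟩ := h.exists_g_one hw
    have hw'0 : w' ≠ 0 := fun e => by rw [e, map_zero, LinearMap.zero_apply] at hw'; exact zero_ne_one hw'
    obtain ⟨z, hz⟩ := exists_ne (0 : U)
    obtain ⟨z', hz'⟩ := h.swap.exists_g_one hz
    change h.fU z' z = 1 at hz'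
    exact siegelGroup_le_of_full hQ (h.sing z' w') (h.sing z w) (by rw [h.pol, hz', hw', one_mul])
      (full_tp hG hQ h5 hall hw'0) (full_tp hG hQ h5 hall hw)
  · refine Or.inr fun g hg w hw => ?_
    push Not at hst
    have hm : h.Member M ((h.A w).map (g : V ≃ₗ[F] V).toLinearMap) := ⟨g, hg, w, hw, rfl⟩
    by_contra hc
    push Not at hc
    refine hst _ ⟨hm, fun w' hw' e => ?_⟩
    obtain ⟨u, hu⟩ := hc w' hw'
    exact hu (e ▸ Submodule.mem_map_of_mem (h.tp_mem_A u w))

end TData

end CfsgLib.TensorSp
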