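import Cfsg.Agent.Lib.OrthMax.TensorSp.Core

/-! Elements of a group containing both symplectic factors, and the actions on the factors. -/

set_option autoImplicit false
set_option linter.unusedSectionVars false
set_option linter.unusedVariables false
set_option linter.unusedSimpArgs false

namespace CfsgLib.TensorSp

open QuadraticMap CfsgLib.Geometry CfsgLib.OrthMax

variable {F V U W : Type*} [Field F] [AddCommGroup V] [Module F V] [AddCommGroup U] [Module F U]
  [AddCommGroup W] [Module F W]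
variable [FiniteDimensional F V] [FiniteDimensional F U] [FiniteDimensional F W]
variable {Q : QuadraticForm F V} {M : Subgroup (V ≃ₗ[F] V)}

/-- `M` has an element of the shape `1 + X`. -/
def In (M : Subgroup (V ≃ₗ[F] V)) (X : Module.End F V) : Prop := ∃ g ∈ M, ∀ T, g T = T + X T

theorem In.zero (M : Subgroup (V ≃ₗ[F] V)) : In M (0 : Module.End F V) :=
  ⟨1, one_mem M, fun T => by simp⟩

theorem In.mul {X Y : Module.End F V} (hX : In M X) (hY : In M Y) : In M (X + Y + X * Y) := by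
  obtain ⟨g, hg, eg⟩ := hX
  obtain ⟨k, hk, ek⟩ := hY
  refine ⟨g * k, mul_mem hg hk, fun T => ?_⟩
  rw [LinearEquiv.mul_apply, eg, ek, map_add]
  simp only [LinearMap.add_apply, Module.End.mul_apply]
  abel

theorem In.add {X Y : Module.End F V} (hX : In M X) (hY : In M Y) (e : X * Y = 0) : In M (X + Y) := by
  simpa [e] using hX.mul hY

theorem In.neg {X : Module.End F V} (hX : In M X) (e : X * X = 0) : In M (-X) := by
  obtain ⟨g, hg, eg⟩ := hX
  refine ⟨g⁻¹, inv_mem hg, fun T => g.injective ?_⟩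
  rw [show g (g⁻¹ T) = T from g.apply_symm_apply T, eg, LinearMap.neg_apply, map_add, map_neg,
    show X (X T) = 0 from LinearMap.congr_fun e T]
  abel

theorem In.conj {X Y : Module.End F V} (hX : In M X) {k : V ≃ₗ[F] V} (hk : k ∈ M)
    (e : ∀ T, k (X T) = Y (k T)) : In M Y := by
  obtain ⟨g, hg, eg⟩ := hX
  refine ⟨k * g * k⁻¹, mul_mem (mul_mem hk hg) (inv_mem hk), fun T => ?_⟩
  obtain ⟨S, rfl⟩ := k.surjective T
  show k (g (k.symm (k S))) = _
  rw [k.symm_apply_apply, eg, map_add, e]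

theorem In.comm {X Y : Module.End F V} (hX : In M X) (hY : In M Y) (hXX : X * X = 0) (hYY : Y * Y = 0)
    (h1 : X * Y * X = 0) (h2 : (X * Y - Y * X) * Y = 0) : In M (X * Y - Y * X) := by
  obtain ⟨g, hg, eg⟩ := ((hX.mul hY).mul (hX.neg hXX)).mul (hY.neg hYY)
  refine ⟨g, hg, fun T => (eg T).trans ?_⟩
  congr 1
  refine LinearMap.congr_fun ?_ T
  have h1' : X * (Y * X) = 0 := by rw [← mul_assoc]; exact h1
  simp only [add_mul, mul_add, mul_neg, neg_mul, sub_mul, mul_assoc, hXX, hYY, h1', mul_zero, zero_mul,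
    add_zero, zero_add, neg_zero, neg_neg] at h2 ⊢
  linear_combination (norm := abel) (-1 : ℤ) • h2

namespace TData

variable (h : TData Q U W)

/-- The group is orthogonal and contains the transvections of both factors. -/
structure Gens (M : Subgroup (V ≃ₗ[F] V)) : Prop where
  le : M ≤ orth Q
  tau : ∀ (w : W) (s : F), In M (s • h.P w w 1)
  gam : ∀ (z : U) (s : F), In M (s • h.swap.P z z 1)

/-- `M` induces `ρ` on the second factor. -/
def Act (M : Subgroup (V ≃ₗ[F] V)) (ρ : Module.End F W) : Prop :=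
  ∃ k ∈ M, ∀ u x, k (h.tp u x) = h.tp u (ρ x)

variable {h}

theorem Act.one : h.Act M 1 := ⟨1, one_mem M, fun u x => rfl⟩

theorem Act.mul {ρ σ : Module.End F W} (hρ : h.Act M ρ) (hσ : h.Act M σ) : h.Act M (ρ * σ) := by
  obtain ⟨k, hk, ek⟩ := hρ
  obtain ⟨l, hl, el⟩ := hσ
  exact ⟨k * l, mul_mem hk hl, fun u x => by rw [LinearEquiv.mul_apply, el, ek, Module.End.mul_apply]⟩

theorem Act.preserves [Nontrivial U] (hM : M ≤ orth Q) {ρ : Module.End F W} (hρ : h.Act M ρ) (x y : W) :
    h.gW (ρ x) (ρ y) = h.gW x y := by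
  obtain ⟨k, hk, ek⟩ := hρ
  obtain ⟨u, hu⟩ := exists_ne (0 : U)
  obtain ⟨u', hu'⟩ : ∃ u', h.fU u' u ≠ 0 := by
    by_contra e
    push Not at e
    exact hu (h.fnd.2 u e)
  have e := orth_polar (hM hk) (h.tp u' x) (h.tp u y)
  rw [ek, ek, h.pol, h.pol] at e
  exact mul_left_cancel₀ hu' e

theorem Act.injective [Nontrivial U] (hM : M ≤ orth Q) {ρ : Module.End F W} (hρ : h.Act M ρ) :
    Function.Injective ρ := (injective_iff_map_eq_zero _).2 fun x e => h.gnd.2 x fun y => by
  rw [← hρ.preserves hM y x, e, map_zero]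

theorem Act.surjective [Nontrivial U] (hM : M ≤ orth Q) {ρ : Module.End F W} (hρ : h.Act M ρ) :
    Function.Surjective ρ := LinearMap.injective_iff_surjective.1 (hρ.injective hM)

theorem c_act (hM : M ≤ orth Q) {ρ : Module.End F W} {k : V ≃ₗ[F] V} (hk : k ∈ M)
    (ek : ∀ u x, k (h.tp u x) = h.tp u (ρ x)) (b : W) (T : V) : h.c (ρ b) (k T) = h.c b T :=
  h.ext_f fun u => by rw [h.pol_c, h.pol_c, ← ek, orth_polar (hM hk)]

/-- Transport by an action on the second factor. -/
theorem _root_.CfsgLib.TensorSp.In.act (hM : M ≤ orth Q) {ρ : Module.End F W} (hρ : h.Act M ρ) {a b : W} {D D' : Module.End F U}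
    (hX : In M (h.P a b D + h.P b a D')) : In M (h.P (ρ a) (ρ b) D + h.P (ρ b) (ρ a) D') := by
  obtain ⟨k, hk, ek⟩ := hρ
  refine hX.conj hk fun T => ?_
  simp only [LinearMap.add_apply, map_add, P_apply, ek, c_act hM hk ek]

theorem _root_.CfsgLib.TensorSp.In.act₁ (hM : M ≤ orth Q) {ρ : Module.End F W} (hρ : h.Act M ρ) {a : W} {D : Module.End F U}
    (hX : In M (h.P a a D)) : In M (h.P (ρ a) (ρ a) D) := by
  obtain ⟨k, hk, ek⟩ := hρ
  exact hX.conj hk fun T => by simp only [P_apply, ek, c_act hM hk ek]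

theorem c_swapAct (hM : M ≤ orth Q) {γ : Module.End F U} (hγ : Function.Surjective γ)
    (hγp : ∀ u u', h.fU (γ u) (γ u') = h.fU u u') {k : V ≃ₗ[F] V} (hk : k ∈ M)
    (ek : ∀ x u, k (h.swap.tp x u) = h.swap.tp x (γ u)) (b : W) (T : V) : h.c b (k T) = γ (h.c b T) :=
  h.ext_f fun u => by
    obtain ⟨v, rfl⟩ := hγ u
    rw [hγp, h.pol_c, h.pol_c, ← orth_polar (hM hk) (h.tp v b) T]
    exact congrArg (fun S => polar Q S (k T)) (ek b v).symm

/-- Transport by an action on the first factor. -/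
theorem _root_.CfsgLib.TensorSp.In.actU [Nontrivial W] (hM : M ≤ orth Q) {γ : Module.End F U} (hγ : h.swap.Act M γ) {a b : W}
    {D D' E E' : Module.End F U} (e : γ * D = E * γ) (e' : γ * D' = E' * γ)
    (hX : In M (h.P a b D + h.P b a D')) : In M (h.P a b E + h.P b a E') := by
  have hs := hγ.surjective hM
  have hp := hγ.preserves hM
  obtain ⟨k, hk, ek⟩ := hγ
  refine hX.conj hk fun T => ?_
  have ek' : ∀ u x, k (h.tp u x) = h.tp (γ u) x := fun u x => ek x u
  simp only [LinearMap.add_apply, map_add, P_apply, ek', c_swapAct hM hs hp hk ek]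
  rw [show γ (D (h.c b T)) = E (γ (h.c b T)) from LinearMap.congr_fun e _,
    show γ (D' (h.c a T)) = E' (γ (h.c a T)) from LinearMap.congr_fun e' _]

variable (hG : h.Gens M)

include hG

theorem Gens.swap : h.swap.Gens M := ⟨hG.le, hG.gam, hG.tau⟩

/-- The symplectic transvections act. -/
theorem act_tv (d : W) (s : F) : h.Act M (1 + s • (h.gW d).smulRight d) := by
  obtain ⟨k, hk, ek⟩ := hG.tau d s
  refine ⟨k, hk, fun u x => (ek _).trans ?_⟩
  simp only [LinearMap.smul_apply, P_apply, Module.End.one_apply, c_tp, map_smul, LinearMap.add_apply,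
    LinearMap.smulRight_apply, map_add]

theorem exists_move {a b : W} (hab : h.gW b a ≠ 0) :
    ∃ ρ, h.Act M ρ ∧ ρ a = b ∧ ∀ x, h.gW (b - a) x = 0 → ρ x = x := by
  refine ⟨_, act_tv hG (b - a) (h.gW b a)⁻¹, ?_, fun x hx => by
    simp only [LinearMap.add_apply, Module.End.one_apply, LinearMap.smul_apply, LinearMap.smulRight_apply, hx,
      zero_smul, smul_zero, add_zero]⟩
  have : h.gW (b - a) a = h.gW b a := by rw [map_sub, LinearMap.sub_apply, h.g_self, sub_zero]
  simp only [LinearMap.add_apply, Module.End.one_apply, LinearMap.smul_apply, LinearMap.smulRight_apply, this,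
    smul_smul, inv_mul_cancel₀ hab, one_smul, add_sub_cancel]

/-- Transitivity on the vectors orthogonal to a fixed one. -/
theorem exists_move_fix {w a b : W} (haw : h.gW a w = 0) (hbw : h.gW b w = 0)
    (ha : a ∉ Submodule.span F {w}) (hb : b ∉ Submodule.span F {w}) :
    ∃ ρ, h.Act M ρ ∧ ρ w = w ∧ ρ a = b := by
  obtain ⟨x, hxw, hxa, hxb⟩ := h.exists_common ha hb
  obtain ⟨ρ, hρ, e1, f1⟩ := exists_move hG hxa
  obtain ⟨σ, hσ, e2, f2⟩ := exists_move hG (a := x) (b := b) (fun e => hxb (h.g_swap_zero e))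
  refine ⟨σ * ρ, hσ.mul hρ, ?_, by rw [Module.End.mul_apply, e1, e2]⟩
  rw [Module.End.mul_apply, f1 _ (by rw [map_sub, LinearMap.sub_apply, hxw, haw, sub_zero]),
    f2 _ (by rw [map_sub, LinearMap.sub_apply, hxw, hbw, sub_zero])]

theorem exists_move_zero {a b : W} (ha : a ≠ 0) (hb : b ≠ 0) : ∃ ρ, h.Act M ρ ∧ ρ a = b := by
  obtain ⟨ρ, hρ, -, e⟩ := exists_move_fix hG (w := 0) (a := a) (b := b) (map_zero _) (map_zero _)
    (by rwa [Submodule.span_zero_singleton, Submodule.mem_bot])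
    (by rwa [Submodule.span_zero_singleton, Submodule.mem_bot])
  exact ⟨ρ, hρ, e⟩

/-- Transitivity on isotropic independent pairs. -/
theorem exists_move_pair [Nontrivial U] {w v w' v' : W} (hwv : h.gW w v = 0) (hw : w ≠ 0)
    (hv : v ∉ Submodule.span F {w}) (hwv' : h.gW w' v' = 0) (hw' : w' ≠ 0) (hv' : v' ∉ Submodule.span F {w'}) :
    ∃ ρ, h.Act M ρ ∧ ρ w = w' ∧ ρ v = v' := by
  obtain ⟨ρ, hρ, e⟩ := exists_move_zero hG hw hw'
  have hvw : h.gW (ρ v) w' = 0 := by rw [← e, hρ.preserves hG.le]; exact h.g_swap_zero hwv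
  have hm : ρ v ∉ Submodule.span F {w'} := fun hm => hv (by
    obtain ⟨s, hs⟩ := Submodule.mem_span_singleton.1 hm
    exact Submodule.mem_span_singleton.2 ⟨s, hρ.injective hG.le (by rw [map_smul, e, hs])⟩)
  obtain ⟨σ, hσ, f1, f2⟩ := exists_move_fix hG hvw (h.g_swap_zero hwv') hm hv'
  exact ⟨σ * ρ, hσ.mul hρ, by rw [Module.End.mul_apply, e, f1], by rw [Module.End.mul_apply, f2]⟩

end TData

end CfsgLib.TensorSp
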