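import Cfsg.Agent.Lib.OrthMax.TensorSp.Perp

/-! A stray member orthogonal to some `A w` gives a non-scalar endomorphism. -/

set_option autoImplicit false
set_option linter.unusedSectionVars false
set_option linter.unusedVariables false
set_option linter.unusedSimpArgs false

namespace CfsgLib.TensorSp

open QuadraticMap CfsgLib.Geometry CfsgLib.OrthMax

variable {F V U W : Type*} [Field F] [AddCommGroup V] [Module F V] [AddCommGroup U] [Module F U]
  [AddCommGroup W] [Module F W]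
variable [FiniteDimensional F V] [FiniteDimensional F U] [FiniteDimensional F W]
variable {Q : QuadraticForm F V} {M : Subgroup (V ≃ₗ[F] V)}

namespace TData

variable {h : TData Q U W} [Nontrivial U] [Nontrivial W] (hG : h.Gens M)

include hG

theorem exists_nonscalar (hQ : (polarBilin Q).Nondegenerate) (h5 : 5 ≤ Module.finrank F W)
    {L : Submodule F V} (hL : h.Stray M L) {w : W} (hw : w ≠ 0) (hp : ∀ l ∈ L, h.c w l = 0) :
    ∃ D, h.InD M D ∧ ∀ s : F, D ≠ s • 1 := by
  by_contra hno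
  obtain ⟨g, hg, w₀, hw₀, hLe⟩ := hL.1
  obtain ⟨w₁, hw₁⟩ := h.exists_g_one hw
  let C : Module.End F V := g.toLinearMap ∘ₗ h.P w₀ w₀ 1 ∘ₗ g.symm.toLinearMap
  have hC : In M C := by
    have := hG.tau w₀ 1
    rw [one_smul] at this
    exact this.conj hg fun T => by simp [C]
  have hCL : ∀ T, C T ∈ L := fun T => by
    rw [hLe]; exact Submodule.mem_map_of_mem (h.tp_mem_A _ w₀)
  have hLC : ∀ S ∈ L, ∃ T, C T = S := fun S hS => by
    rw [hLe] at hS
    obtain ⟨_, ⟨x, rfl⟩, rfl⟩ := hS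
    obtain ⟨y, hy⟩ := h.exists_g_one hw₀
    exact ⟨g (h.tp x (-y)), by simp [C, P_apply, h.g_swap w₀ y, hy]⟩
  have hCw : ∀ T, h.c w (C T) = 0 := fun T => hp _ (hCL T)
  have hCA : ∀ u, C (h.tp u w) = 0 := fun u => by
    have e : h.c w₀ (g.symm (h.tp u w)) = 0 := h.ext_f fun x => by
      rw [h.pol_c, map_zero, ← orth_polar (hG.le hg), g.apply_symm_apply, h.polar_tp',
        hp _ (by rw [hLe]; exact Submodule.mem_map_of_mem (h.tp_mem_A x w₀)), map_zero]
    simp [C, P_apply, e]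
  have hskew : ∀ S T, polar Q (C S) T + polar Q S (C T) = 0 := fun S T => by
    have := hC.polar_eq hG.le S T
    rwa [hL.1.polar_eq_zero hG.le (hCL S) (hCL T), add_zero] at this
  have hCC : ∀ T, C (C T) = 0 := fun T => h.sep _ fun u y => by
    have := hskew (h.tp u y) (C T)
    rwa [hL.1.polar_eq_zero hG.le (hCL _) (hCL T), zero_add] at this
  have hdich : ∀ {X : Module.End F V}, In M X → (∀ u, X (h.tp u w) = 0) →
      (∀ u v, h.gW v w = 0 → X (h.tp u v) ∈ h.A w) → (∀ T, h.c w (X T) = 0) →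
      ∃ κ : Module.End F W, ∀ u y, X (h.tp u y) = h.tp u (κ y) := fun hX h1 h2 h3 =>
    (radical_dichotomy hG hQ h5 hX hw h1 h2 h3).resolve_left hno
  -- the components of `C` on the orthogonal of `A w` are scalar
  have hscal : ∀ a v, h.gW a w = 0 → h.gW v w = 0 → ∃ s : F, ∀ u, h.c a (C (h.tp u v)) = s • u := by
    intro a v ha hv
    have hwa := h.g_swap_zero ha
    set N : Module.End F V := h.P w a 1 + h.P a w 1 with hNdef
    obtain ⟨k, hk, ek⟩ := in_pair hG hwa
    have hNN : ∀ T, N (N T) = 0 := fun T => by simp [hNdef, P_apply, h.g_self, ha, hwa]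
    have hC' : In M (C + N * C - C * N - N * C * N) := hC.conj hk fun T => by
      simp only [ek, ← hNdef, LinearMap.add_apply, LinearMap.sub_apply, Module.End.mul_apply, map_add, hNN,
        map_zero]
      abel
    have hCN : ∀ T, C (N (C T)) = 0 := fun T => by simp [hNdef, P_apply, hCw, hCA]
    have hE : In M (N * C - C * N - N * C * N) := hC'.div hC (LinearMap.ext fun T => by
      simp only [LinearMap.add_apply, LinearMap.sub_apply, Module.End.mul_apply, hCC, hCN, map_zero]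
      abel)
    have hNA : ∀ u, N (h.tp u w) = 0 := fun u => by simp [hNdef, P_apply, h.g_self, ha]
    have hEv : ∀ u x, h.gW x w = 0 → (N * C - C * N - N * C * N) (h.tp u x) = h.tp (h.c a (C (h.tp u x))) w := by
      intro u x hx
      have e1 : N (h.tp u x) = h.tp (h.gW a x • u) w := by simp [hNdef, P_apply, h.g_swap_zero hx]
      simp only [LinearMap.sub_apply, Module.End.mul_apply, e1, hCA, map_zero, sub_zero]
      simp [hNdef, P_apply, hCw]
    obtain ⟨κ, hκ⟩ := hdich hE (fun u => by simp [hCA, hNA])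
      (fun u x hx => by rw [hEv u x hx]; exact h.tp_mem_A _ w)
      (fun T => by simp [hNdef, P_apply, hCw, h.g_self, hwa])
    refine ⟨h.gW w₁ (κ v), fun u => ?_⟩
    have e := congrArg (h.c w₁) ((hEv u v hv).symm.trans (hκ u v))
    rwa [h.c_tp, h.c_tp, hw₁, one_smul] at e
  obtain ⟨u₀, hu₀⟩ := exists_ne (0 : U)
  obtain ⟨a₀, ha₀⟩ := h.swap.exists_g_one hu₀
  change h.fU a₀ u₀ = 1 at ha₀
  obtain ⟨β, hβ⟩ : ∃ β : Module.End F W, ∀ a v, h.gW a (β v) = h.fU a₀ (h.c a (C (h.tp u₀ v))) := by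
    let Λ : W →ₗ[F] Module.Dual F W :=
      LinearMap.mk₂ F (fun v a => h.fU a₀ (h.c a (C (h.tp u₀ v))))
        (fun v v' a => by simp) (fun s v a => by simp) (fun v a a' => by simp) (fun s v a => by simp)
    have hgnd : h.gW.flip.Nondegenerate := LinearMap.flip_nondegenerate.2 h.gnd
    refine ⟨(h.gW.flip.toDual hgnd).symm.toLinearMap ∘ₗ Λ, fun a v => ?_⟩
    show h.gW.flip _ a = _
    exact LinearMap.BilinForm.apply_toDual_symm_apply (hB := hgnd) (Λ v) a
  have hβw : ∀ v, h.gW w (β v) = 0 := fun v => by rw [hβ, hCw, map_zero]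
  have hmod : ∀ u v, h.gW v w = 0 → C (h.tp u v) - h.tp u (β v) ∈ h.A w := fun u v hv =>
    h.mem_A_of_c hw fun a ha => by
      obtain ⟨s, hs⟩ := hscal a v ha hv
      rw [map_sub, hs, h.c_tp, hβ, hs, map_smul, ha₀, smul_eq_mul, mul_one, sub_self]
  -- a single vector carries all components
  obtain ⟨b, hwb, hb⟩ : ∃ b, h.gW w b = 0 ∧ ∀ v, h.gW v w = 0 → β v ∈ Submodule.span F ({w, b} : Set W) := by
    by_cases h0 : ∀ v, h.gW v w = 0 → β v ∈ Submodule.span F {w}
    · exact ⟨0, map_zero _, fun v hv => Submodule.span_mono (by simp) (h0 v hv)⟩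
    push Not at h0
    obtain ⟨v₁, hv₁, hb₁⟩ := h0
    refine ⟨β v₁, hβw v₁, fun v hv => by_contra fun hn => ?_⟩
    obtain ⟨x, hxw, hxb, hxv⟩ := exists_two (h := h) hb₁ hn
    obtain ⟨y, hyw, hyb⟩ := h.exists_perp_one hb₁
    let φ : U × U →ₗ[F] V ⧸ h.A w := (h.A w).mkQ ∘ₗ (h.tp.flip (β v₁)).coprod (h.tp.flip (β v))
    have hinj : Function.Injective φ := (injective_iff_map_eq_zero _).2 fun ⟨p, q⟩ e => by
      have hm : h.tp p (β v₁) + h.tp q (β v) ∈ h.A w := (Submodule.Quotient.mk_eq_zero _).1 e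
      have h1 := h.c_A hxw hm
      rw [map_add, h.c_tp, h.c_tp, hxb, hxv, zero_smul, zero_add, one_smul] at h1
      subst h1
      have h2 := h.c_A hyw hm
      rw [map_add, h.c_tp, h.c_tp, hyb, smul_zero, one_smul, add_zero] at h2
      subst h2
      rfl
    have hrange : LinearMap.range φ ≤ L.map (h.A w).mkQ := by
      rintro _ ⟨⟨p, q⟩, rfl⟩
      refine ⟨C (h.tp p v₁) + C (h.tp q v), L.add_mem (hCL _) (hCL _), (Submodule.Quotient.eq _).2 ?_⟩
      have := (h.A w).add_mem (hmod p v₁ hv₁) (hmod q v hv)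
      rwa [show C (h.tp p v₁) - h.tp p (β v₁) + (C (h.tp q v) - h.tp q (β v)) =
        C (h.tp p v₁) + C (h.tp q v) - (h.tp p (β v₁) + h.tp q (β v)) by abel] at this
    have h1 := Submodule.finrank_mono hrange
    rw [LinearMap.finrank_range_of_inj hinj, Module.finrank_prod] at h1
    have h2 := Submodule.finrank_map_le (h.A w).mkQ L
    rw [hL.1.finrank] at h2
    have h3 : 0 < Module.finrank F U := Module.finrank_pos
    omega
  have hbw := h.g_swap_zero hwb
  have hμ : ∀ v, h.gW v w = 0 → ∃ μ : F, ∀ u, C (h.tp u v) - μ • h.tp u b ∈ h.A w := fun v hv => by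
    obtain ⟨s, μ, hs⟩ := Submodule.mem_span_pair.1 (hb v hv)
    refine ⟨μ, fun u => ?_⟩
    have := (h.A w).add_mem (hmod u v hv) ((h.A w).smul_mem s (h.tp_mem_A u w))
    rwa [← hs, map_add, map_smul, map_smul,
      show C (h.tp u v) - (s • h.tp u w + μ • h.tp u b) + s • h.tp u w = C (h.tp u v) - μ • h.tp u b by abel] at this
  obtain ⟨lam, hlam⟩ : ∃ lam : F, ∀ u v, h.gW v w = 0 → C (h.tp u v) - (lam * h.gW b v) • h.tp u b ∈ h.A w := by
    by_cases hbs : b ∈ Submodule.span F {w}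
    · refine ⟨0, fun u v hv => ?_⟩
      obtain ⟨μ, hμ⟩ := hμ v hv
      obtain ⟨s, rfl⟩ := Submodule.mem_span_singleton.1 hbs
      have := (h.A w).add_mem (hμ u) ((h.A w).smul_mem μ ((h.A w).smul_mem s (h.tp_mem_A u w)))
      rw [map_smul, sub_add_cancel] at this
      simpa using this
    obtain ⟨x, hxw, hxb⟩ := h.exists_perp_one hbs
    have hv₁ : h.gW (-x) w = 0 := by rw [map_neg, LinearMap.neg_apply, hxw, neg_zero]
    obtain ⟨lam, hlam⟩ := hμ _ hv₁
    refine ⟨lam, fun u v hv => ?_⟩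
    obtain ⟨μ, hμv⟩ := hμ v hv
    have h1 : ∀ {S : V} {p : U} {y : W}, S ∈ h.A w → h.gW y w = 0 → polar Q S (h.tp p y) = 0 := fun hS hy => by
      rw [h.polar_tp', h.c_A hy hS, map_zero]
    have e := hskew (h.tp a₀ v) (h.tp u₀ (-x))
    rw [← sub_add_cancel (C (h.tp a₀ v)) (μ • h.tp a₀ b), ← sub_add_cancel (C (h.tp u₀ (-x))) (lam • h.tp u₀ b),
      polar_add_left, polar_add_right, h1 (hμv a₀) hv₁, QuadraticMap.polar_comm Q (h.tp a₀ v),
      h1 (hlam u₀) hv, polar_smul_left', polar_smul_right', h.pol, h.pol, ha₀, one_mul, one_mul, zero_add,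
      zero_add, map_neg, h.g_swap b x, hxb, neg_neg, h.g_swap v b, mul_one] at e
    rw [show lam * h.gW b v = μ by linear_combination -e]
    exact hμv u
  -- subtract the transvection at `b`
  have hPb : ∀ T, h.P b b 1 (h.P b b 1 T) = 0 := fun T => by simp [P_apply, h.g_self]
  set X : Module.End F V := C + (-lam) • h.P b b 1 + C * ((-lam) • h.P b b 1) with hXdef
  have hXv : ∀ u y, X (h.tp u y) = C (h.tp u y) - (lam * h.gW b y) • h.tp u b -
      (lam * h.gW b y) • C (h.tp u b) := fun u y => by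
    simp only [hXdef, LinearMap.add_apply, Module.End.mul_apply, LinearMap.smul_apply, P_apply,
      Module.End.one_apply, h.c_tp, map_smul, smul_smul]
    module
  obtain ⟨κ, hκ⟩ := hdich (hC.mul (hG.tau b (-lam)))
    (fun u => by rw [← hXdef, hXv, hCA, hbw]; simp)
    (fun u v hv => by
      rw [← hXdef, hXv]
      refine (h.A w).sub_mem (hlam u v hv) ((h.A w).smul_mem _ ?_)
      have := hlam u b hbw
      rwa [h.g_self, mul_zero, zero_smul, sub_zero] at this)
    (fun T => by simp [P_apply, hCw, hwb])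
  rw [← hXdef] at hκ
  have hC' : ∀ u y, C (h.tp u y) = h.tp u (κ y + (lam * h.gW b y) • b + (lam * h.gW b y) • κ b) := fun u y => by
    have e1 := hXv u y
    have e2 := hXv u b
    rw [h.g_self, mul_zero, zero_smul, zero_smul, sub_zero, sub_zero] at e2
    rw [hκ] at e1 e2
    rw [map_add, map_add, map_smul, map_smul, e1, e2]
    abel
  obtain ⟨y, hy⟩ : ∃ y, κ y + (lam * h.gW b y) • b + (lam * h.gW b y) • κ b ≠ 0 := by
    by_contra hall
    push Not at hall
    refine h.tp_ne_zero hu₀ hw₀ (g.map_eq_zero_iff.1 ?_)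
    obtain ⟨T, hT⟩ := hLC (g (h.tp u₀ w₀)) (by rw [hLe]; exact Submodule.mem_map_of_mem (h.tp_mem_A u₀ w₀))
    rw [← hT]
    refine h.sep _ fun u y => ?_
    have := hskew (h.tp u y) T
    rwa [hC', hall, map_zero, polar_zero_left, zero_add] at this
  refine hL.2 _ hy (Submodule.eq_of_le_of_finrank_le ?_ (by rw [h.finrank_A hy, hL.1.finrank])).symm
  rintro _ ⟨u, rfl⟩
  rw [LinearMap.flip_apply, ← hC']
  exact hCL _

end TData

end CfsgLib.TensorSp
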